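import Groth.Agent.Lib.SymGr.Core
import Groth.Agent.Lib.FSAdic.Kaehler
import Groth.Prelude.Def_CAlgX
import Groth.Prelude.Def_PP16
import Mathlib.RingTheory.Ideal.Cotangent
import Mathlib.RingTheory.Smooth.Basic

/-!
# Adic formal smoothness and the symmetric algebra of the conormal module
-/

universe u

open scoped TensorProduct
open KaehlerDifferential Groth.Agent.Lib.SymGr.Core Groth.Agent.Lib.FSAdic.Basic

namespace Groth.Agent.Lib.SymGr.Main

variable {A B : Type u} [CommRing A] [CommRing B] [Algebra A B] {J : Ideal B}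

instance : IsScalarTower A (B ⧸ J) J.Cotangent :=
  IsScalarTower.of_algebraMap_smul fun a x => by
    rw [IsScalarTower.algebraMap_apply A B (B ⧸ J), algebraMap_smul, algebraMap_smul]

local notation "SS" => SymmetricAlgebra (B ⧸ J) J.Cotangent

/-- A map from the symmetric algebra of the conormal module to `B ⧸ J ^ N` lifting the classes. -/
structure Presentation (A : Type u) {B : Type u} [CommRing A] [CommRing B] [Algebra A B]
    (J : Ideal B) (N : ℕ) where
  two_le : 2 ≤ N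
  toHom : SymmetricAlgebra (B ⧸ J) J.Cotangent →ₐ[A] B ⧸ J ^ N
  sub_mem : ∀ x : J, toHom (SymmetricAlgebra.ι (B ⧸ J) J.Cotangent (J.toCotangent x)) -
    Ideal.Quotient.mk (J ^ N) (x : B) ∈ (J.map (Ideal.Quotient.mk (J ^ N))) ^ 2
  mk_sub_mem : ∀ b : B, Ideal.Quotient.mk (J ^ N) b -
    toHom (algebraMap (B ⧸ J) (SymmetricAlgebra (B ⧸ J) J.Cotangent) (Ideal.Quotient.mk J b)) ∈
      J.map (Ideal.Quotient.mk (J ^ N))

theorem mem_of_mk_mem_map_pow {N j : ℕ} (hj : j ≤ N) {b : B}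
    (h : Ideal.Quotient.mk (J ^ N) b ∈ (J.map (Ideal.Quotient.mk (J ^ N))) ^ j) : b ∈ J ^ j := by
  rw [← Ideal.map_pow, ← Ideal.mem_comap,
    Ideal.comap_map_of_surjective _ Ideal.Quotient.mk_surjective] at h
  obtain ⟨a, ha, c, hc, rfl⟩ := Submodule.mem_sup.1 h
  rw [Ideal.mem_comap, Ideal.mem_bot, Ideal.Quotient.eq_zero_iff_mem] at hc
  exact add_mem ha (Ideal.pow_le_pow_right hj hc)

theorem exists_presentation [Algebra.FormallySmooth A (B ⧸ J)]
    [Module.Projective (B ⧸ J) J.Cotangent] {N : ℕ} (hN : 2 ≤ N) :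
    Nonempty (Presentation A J N) := by
  classical
  let R := B ⧸ J ^ N
  let mk : B →+* R := Ideal.Quotient.mk (J ^ N)
  let J' : Ideal R := J.map mk
  have hle : J ^ N ≤ J := Ideal.pow_le_self (by omega)
  let f : R →ₐ[A] B ⧸ J := Ideal.Quotient.factorₐ A hle
  have hf : Function.Surjective f := Ideal.Quotient.factor_surjective hle
  have hfker : RingHom.ker f.toRingHom = J' := Ideal.Quotient.factor_ker hle
  obtain ⟨σ, hσ⟩ := Algebra.FormallySmooth.exists_lift (RingHom.ker f.toRingHom)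
    ⟨N, by rw [hfker, ← Ideal.map_pow, Ideal.map_quotient_self]; rfl⟩
    (Ideal.quotientKerAlgEquivOfSurjective hf).symm.toAlgHom
  have hσ' : ∀ c, f (σ c) = c := fun c => by
    exact (congr_arg (Ideal.quotientKerAlgEquivOfSurjective hf) (AlgHom.congr_fun hσ c)).trans
      (AlgEquiv.apply_symm_apply _ c)
  have hσmem : ∀ b : B, mk b - σ (Ideal.Quotient.mk J b) ∈ J' := fun b => by
    rw [← hfker, RingHom.mem_ker, map_sub, sub_eq_zero]
    exact (hσ' _).symm
  letI : Algebra (B ⧸ J) R := σ.toRingHom.toAlgebra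
  haveI : IsScalarTower A (B ⧸ J) R := IsScalarTower.of_algebraMap_eq fun a => (σ.commutes a).symm
  have hsmul : ∀ (c : B ⧸ J) (r : R), c • r = σ c * r := fun _ _ => rfl
  let mk₂ : R →ₗ[B ⧸ J] R ⧸ J' ^ 2 := (Ideal.Quotient.mkₐ (B ⧸ J) (J' ^ 2)).toLinearMap
  let lam : J →+ R ⧸ J' ^ 2 :=
    { toFun := fun x => mk₂ (mk (x : B))
      map_zero' := by simp
      map_add' := fun x y => by simp }
  have hlam : ∀ x : J, (x : B) ∈ J ^ 2 → lam x = 0 := fun x hx => by
    change Ideal.Quotient.mk (J' ^ 2) (mk (x : B)) = 0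
    rw [Ideal.Quotient.eq_zero_iff_mem, ← Ideal.map_pow]
    exact Ideal.mem_map_of_mem _ hx
  choose rep hrep using fun p : J.Cotangent => J.toCotangent_surjective p
  have hcl : ∀ x y : J, J.toCotangent x = J.toCotangent y → lam x = lam y := fun x y h => by
    rw [← sub_eq_zero, ← map_sub]
    exact hlam _ ((Ideal.toCotangent_eq J).1 h)
  let ι₂ : J.Cotangent →ₗ[B ⧸ J] R ⧸ J' ^ 2 :=
    { toFun := fun p => lam (rep p)
      map_add' := fun p q => by
        rw [← map_add]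
        exact hcl _ _ (by rw [map_add, hrep, hrep, hrep])
      map_smul' := fun c p => by
        obtain ⟨b, rfl⟩ := Ideal.Quotient.mk_surjective c
        rw [RingHom.id_apply, hcl _ (b • rep p) (by
          rw [map_smul, hrep, hrep]; exact algebraMap_smul (B ⧸ J) b p)]
        change Ideal.Quotient.mk (J' ^ 2) (mk (b * (rep p : B))) =
          Ideal.Quotient.mk J b • Ideal.Quotient.mk (J' ^ 2) (mk (rep p : B))
        rw [show Ideal.Quotient.mk J b • Ideal.Quotient.mk (J' ^ 2) (mk (rep p : B)) =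
          Ideal.Quotient.mk (J' ^ 2) (Ideal.Quotient.mk J b • mk (rep p : B)) from rfl, hsmul,
          map_mul mk, Ideal.Quotient.eq, ← sub_mul, pow_two]
        exact Ideal.mul_mem_mul (hσmem b) (Ideal.mem_map_of_mem mk (rep p).2) }
  let q : J'.restrictScalars (B ⧸ J) →ₗ[B ⧸ J] R ⧸ J' ^ 2 := mk₂ ∘ₗ Submodule.subtype _
  have hι₂ : ∀ p, ι₂ p ∈ LinearMap.range q := fun p =>
    ⟨⟨mk (rep p : B), Ideal.mem_map_of_mem mk (rep p).2⟩, rfl⟩
  obtain ⟨s, hs⟩ := Module.projective_lifting_property q.rangeRestrict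
    (ι₂.codRestrict _ hι₂) q.surjective_rangeRestrict
  let L : SS →ₐ[B ⧸ J] R := SymmetricAlgebra.lift (Submodule.subtype _ ∘ₗ s)
  refine ⟨⟨hN, L.restrictScalars A, fun x => ?_, fun b => ?_⟩⟩
  · change L (SymmetricAlgebra.ι _ _ (J.toCotangent x)) - mk (x : B) ∈ J' ^ 2
    rw [SymmetricAlgebra.lift_ι_apply, ← Ideal.Quotient.eq]
    have h1 : q (s (J.toCotangent x)) = ι₂ (J.toCotangent x) :=
      congr_arg Subtype.val (LinearMap.congr_fun hs (J.toCotangent x))
    exact h1.trans (hcl _ _ (hrep _))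
  · change mk b - L (algebraMap (B ⧸ J) SS (Ideal.Quotient.mk J b)) ∈ J'
    rw [AlgHom.commutes]
    exact hσmem b

variable {N : ℕ} (Φ : Presentation A J N)

theorem ι_mem (x : J) :
    Φ.toHom (SymmetricAlgebra.ι (B ⧸ J) J.Cotangent (J.toCotangent x)) ∈
      J.map (Ideal.Quotient.mk (J ^ N)) := by
  have h := add_mem (Ideal.pow_le_self two_ne_zero (Φ.sub_mem x))
    (Ideal.mem_map_of_mem (Ideal.Quotient.mk (J ^ N)) x.2)
  rwa [sub_add_cancel] at h

theorem map_pow_irr_le (n : ℕ) :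
    (irr (B ⧸ J) J.Cotangent ^ n).map Φ.toHom.toRingHom ≤
      (J.map (Ideal.Quotient.mk (J ^ N))) ^ n := by
  rw [Ideal.map_pow]
  refine Ideal.pow_right_mono ?_ n
  rw [irr, Ideal.map_span, Ideal.span_le]
  rintro _ ⟨_, ⟨p, rfl⟩, rfl⟩
  obtain ⟨x, rfl⟩ := J.toCotangent_surjective p
  exact ι_mem Φ x

variable {ι : Type u} [Fintype ι]

theorem prod_sub_mem (x : ι → J) :
    Φ.toHom (∏ i, SymmetricAlgebra.ι (B ⧸ J) J.Cotangent (J.toCotangent (x i))) -
      Ideal.Quotient.mk (J ^ N) (∏ i, (x i : B)) ∈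
        (J.map (Ideal.Quotient.mk (J ^ N))) ^ (Fintype.card ι + 1) := by
  rw [map_prod, map_prod]
  exact prod_sub_prod_mem _ Finset.univ _ _ (fun i _ => ι_mem Φ (x i))
    (fun i _ => Ideal.mem_map_of_mem _ (x i).2) (fun i _ => Φ.sub_mem (x i))

/-- The values of the presentation on homogeneous elements. -/
theorem exists_lift_prodMap [Nonempty ι] (t : SymmetricPower B ι J.Cotangent) :
    ∃ y : ↥(J ^ Fintype.card ι),
      Φ.toHom (prodMap B (B ⧸ J) J.Cotangent ι t) - Ideal.Quotient.mk (J ^ N) (y : B) ∈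
        (J.map (Ideal.Quotient.mk (J ^ N))) ^ (Fintype.card ι + 1) ∧
      ∀ φ : SymmetricPower B ι J.Cotangent →ₗ[B] PP16.grJ B J (Fintype.card ι),
        (∀ x : ι → ↥J, φ (SymmetricPower.tprod B (fun i => J.toCotangent (x i))) = PP16.zetaJ B J x) →
          φ t = Submodule.Quotient.mk y := by
  have h : t ∈ Submodule.span B (Set.range (SymmetricPower.tprod B (ι := ι) (M := J.Cotangent))) := by
    rw [SymmetricPower.span_tprod_eq_top]
    trivial
  induction h using Submodule.span_induction with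
  | mem z hz =>
    obtain ⟨p, rfl⟩ := hz
    choose x hx using fun i => J.toCotangent_surjective (p i)
    obtain rfl : (fun i => J.toCotangent (x i)) = p := funext hx
    exact ⟨⟨∏ i, (x i : B), by
      rw [← Finset.card_univ, ← Finset.prod_const]; exact Ideal.prod_mem_prod fun i _ => (x i).2⟩,
      by rw [prodMap_tprod]; exact prod_sub_mem Φ x, fun φ hφ => hφ x⟩
  | zero => exact ⟨0, by simp, fun φ _ => by simp⟩
  | add z w _ _ hz hw =>
    obtain ⟨y, hy, hy'⟩ := hz
    obtain ⟨y', hy₁, hy₁'⟩ := hw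
    refine ⟨y + y', ?_, fun φ hφ => by rw [map_add, hy' φ hφ, hy₁' φ hφ]; rfl⟩
    rw [map_add, map_add, Submodule.coe_add, map_add, add_sub_add_comm]
    exact add_mem hy hy₁
  | smul b z _ hz =>
    obtain ⟨y, hy, hy'⟩ := hz
    refine ⟨b • y, ?_, fun φ hφ => by rw [map_smul, hy' φ hφ]; rfl⟩
    rw [map_smul, Algebra.smul_def, map_mul, Submodule.coe_smul, smul_eq_mul, map_mul,
      IsScalarTower.algebraMap_apply B (B ⧸ J) SS, Ideal.Quotient.algebraMap_eq]
    have h1 : (Ideal.Quotient.mk (J ^ N) b -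
        Φ.toHom (algebraMap (B ⧸ J) SS (Ideal.Quotient.mk J b))) * Ideal.Quotient.mk (J ^ N) (y : B) ∈
          (J.map (Ideal.Quotient.mk (J ^ N))) ^ (Fintype.card ι + 1) := by
      rw [pow_succ']
      refine Ideal.mul_mem_mul (Φ.mk_sub_mem b) ?_
      rw [← Ideal.map_pow]
      exact Ideal.mem_map_of_mem _ y.2
    have h2 := sub_mem (Ideal.mul_mem_left _
      (Φ.toHom (algebraMap (B ⧸ J) SS (Ideal.Quotient.mk J b))) hy) h1
    convert h2 using 1
    ring

theorem sub_mem_irr (z : SS) :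
    ∃ c : B ⧸ J, z - algebraMap (B ⧸ J) SS c ∈ irr (B ⧸ J) J.Cotangent := by
  induction z using SymmetricAlgebra.induction with
  | algebraMap c => exact ⟨c, by rw [sub_self]; exact Submodule.zero_mem _⟩
  | ι p => exact ⟨0, by rw [map_zero, sub_zero]; exact ι_mem_irr p⟩
  | mul a b ha hb =>
    obtain ⟨c, hc⟩ := ha
    obtain ⟨c', hc'⟩ := hb
    exact ⟨c * c', by rw [map_mul]; exact Ideal.mul_sub_mul_mem _ hc hc'⟩
  | add a b ha hb =>
    obtain ⟨c, hc⟩ := ha
    obtain ⟨c', hc'⟩ := hb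
    exact ⟨c + c', by rw [map_add, add_sub_add_comm]; exact add_mem hc hc'⟩

theorem eq_mk_of_sub_mem (z : SS) (c : B ⧸ J) (b : B)
    (hz : z - algebraMap (B ⧸ J) SS c ∈ irr (B ⧸ J) J.Cotangent)
    (hb : Φ.toHom z = Ideal.Quotient.mk (J ^ N) b) : c = Ideal.Quotient.mk J b := by
  have := Φ.two_le
  obtain ⟨b', rfl⟩ := Ideal.Quotient.mk_surjective c
  have h1 := map_pow_irr_le Φ 1 (Ideal.mem_map_of_mem Φ.toHom.toRingHom
    (show z - algebraMap (B ⧸ J) SS (Ideal.Quotient.mk J b') ∈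
      irr (B ⧸ J) J.Cotangent ^ 1 by rwa [pow_one]))
  change Φ.toHom (z - algebraMap (B ⧸ J) SS (Ideal.Quotient.mk J b')) ∈ _ at h1
  rw [map_sub, hb, pow_one] at h1
  have h2 := sub_mem h1 (Φ.mk_sub_mem b')
  rw [sub_sub_sub_cancel_right, ← map_sub, ← pow_one (J.map _)] at h2
  have h3 := mem_of_mk_mem_map_pow (by omega) h2
  rw [pow_one, ← Ideal.Quotient.eq] at h3
  exact h3.symm

theorem surjective : Function.Surjective Φ.toHom := by
  have := Φ.two_le
  set J' := J.map (Ideal.Quotient.mk (J ^ N)) with hJ'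
  let L := Φ.toHom.range
  have h1 : ∀ r, ∃ l ∈ L, r - l ∈ J' := fun r => by
    obtain ⟨b, rfl⟩ := Ideal.Quotient.mk_surjective r
    exact ⟨_, ⟨_, rfl⟩, Φ.mk_sub_mem b⟩
  have h2 : ∀ r ∈ J', ∃ l ∈ L, r - l ∈ J' ^ 2 := fun r hr => by
    obtain ⟨x, hx, rfl⟩ := (Ideal.mem_map_iff_of_surjective _ Ideal.Quotient.mk_surjective).1 hr
    refine ⟨_, ⟨SymmetricAlgebra.ι _ _ (J.toCotangent ⟨x, hx⟩), rfl⟩, ?_⟩
    rw [← neg_mem_iff, neg_sub]
    exact Φ.sub_mem ⟨x, hx⟩
  have hpow : ∀ n, ∀ r ∈ J' ^ n, ∃ l ∈ L, r - l ∈ J' ^ (n + 1) := by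
    intro n
    induction n with
    | zero => intro r _; simpa using h1 r
    | succ n ih =>
      intro r hr
      rw [pow_succ] at hr
      induction hr using Submodule.mul_induction_on' with
      | mem_mul_mem x hx y hy =>
        obtain ⟨l, hl, hxl⟩ := ih x hx
        obtain ⟨l', hl', hyl⟩ := h2 y hy
        refine ⟨l * l', mul_mem hl hl', ?_⟩
        rw [show x * y - l * l' = (x - l) * y + l * (y - l') by ring]
        refine add_mem ?_ ?_
        · rw [pow_succ]
          exact Ideal.mul_mem_mul hxl hy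
        · have hlmem : l ∈ J' ^ n := by
            have := sub_mem hx (Ideal.pow_le_pow_right (Nat.le_succ n) hxl)
            rwa [sub_sub_cancel] at this
          rw [show n + 1 + 1 = n + 2 from rfl, pow_add]
          exact Ideal.mul_mem_mul hlmem hyl
      | add x _ y _ hx hy =>
        obtain ⟨l, hl, hxl⟩ := hx
        obtain ⟨l', hl', hyl⟩ := hy
        exact ⟨l + l', add_mem hl hl', by rw [add_sub_add_comm]; exact add_mem hxl hyl⟩
  have hall : ∀ n, ∀ r, ∃ l ∈ L, r - l ∈ J' ^ n := by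
    intro n
    induction n with
    | zero => exact fun r => ⟨0, zero_mem _, by simp⟩
    | succ n ih =>
      intro r
      obtain ⟨l, hl, hrl⟩ := ih r
      obtain ⟨l', hl', h⟩ := hpow n _ hrl
      exact ⟨l + l', add_mem hl hl', by rwa [← sub_sub]⟩
  intro r
  obtain ⟨l, ⟨z, hz⟩, hrl⟩ := hall N r
  rw [hJ', ← Ideal.map_pow, Ideal.map_quotient_self, Ideal.mem_bot, sub_eq_zero] at hrl
  exact ⟨z, hz.trans hrl.symm⟩

/-- The kernel is in a power of the irrelevant ideal if the symmetric powers inject. -/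
theorem ker_le
    (hinj : ∀ n, 1 ≤ n → n < N → ∀ t : SymmetricPower B (ULift.{u} (Fin n)) J.Cotangent,
      Φ.toHom (prodMap B (B ⧸ J) J.Cotangent (ULift.{u} (Fin n)) t) ∈
        (J.map (Ideal.Quotient.mk (J ^ N))) ^ (n + 1) → t = 0)
    (z : SS) (hz : Φ.toHom z = 0) : z ∈ irr (B ⧸ J) J.Cotangent ^ N := by
  suffices ∀ j ≤ N, z ∈ irr (B ⧸ J) J.Cotangent ^ j from this N le_rfl
  intro j
  induction j with
  | zero => intro _; simp
  | succ n ih =>
    intro hn
    rcases Nat.eq_zero_or_pos n with rfl | hpos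
    · obtain ⟨c, hc⟩ := sub_mem_irr z
      rw [eq_mk_of_sub_mem Φ z c 0 hc (by rw [hz, map_zero]), map_zero, map_zero, sub_zero] at hc
      rwa [zero_add, pow_one]
    · haveI : Nonempty (Fin n) := ⟨⟨0, hpos⟩⟩
      have hcard : Fintype.card (ULift.{u} (Fin n)) = n := by simp
      obtain ⟨t, ht⟩ := exists_prodMap_sub_mem (B := B) (ι := ULift.{u} (Fin n))
        Ideal.Quotient.mk_surjective z (by rw [hcard]; exact ih (by omega))
      rw [hcard] at ht
      have h1 := map_pow_irr_le Φ (n + 1) (Ideal.mem_map_of_mem Φ.toHom.toRingHom ht)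
      change Φ.toHom (_ - _) ∈ _ at h1
      rw [map_sub, hz, zero_sub, neg_mem_iff] at h1
      rwa [hinj n hpos (by omega) t h1, map_zero, sub_zero] at ht

theorem isAdicFormallySmooth_of_symGr [Algebra.FormallySmooth A (B ⧸ J)]
    [Module.Projective (B ⧸ J) J.Cotangent] (hgr : PP16.SymGrBijective B J) :
    CAlgX.IsAdicFormallySmooth A B J := by
  intro E _ _ K hK ψ ⟨k, hk⟩
  obtain ⟨N, hN⟩ : ∃ N, N = 2 * k + 2 := ⟨_, rfl⟩
  obtain ⟨Φ⟩ := exists_presentation (A := A) (J := J) (N := N) (by omega)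
  have hker : ∀ z, Φ.toHom z = 0 → z ∈ irr (B ⧸ J) J.Cotangent ^ N := ker_le Φ fun n hn hnN t ht => by
    haveI : Nonempty (Fin n) := ⟨⟨0, hn⟩⟩
    obtain ⟨φ, hφ, hbij⟩ := hgr (ULift.{u} (Fin n))
    obtain ⟨y, hy, hy'⟩ := exists_lift_prodMap Φ t
    have hcard : Fintype.card (ULift.{u} (Fin n)) = n := by simp
    refine hbij.1 ?_
    rw [map_zero, hy' φ hφ, Submodule.Quotient.mk_eq_zero, Submodule.mem_comap]
    have ht' : Φ.toHom (prodMap B (B ⧸ J) J.Cotangent (ULift.{u} (Fin n)) t) ∈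
        (J.map (Ideal.Quotient.mk (J ^ N))) ^ (Fintype.card (ULift.{u} (Fin n)) + 1) := by
      rw [congr_arg (· + 1) hcard]
      exact ht
    have h1 := sub_mem ht' hy
    rw [sub_sub_cancel] at h1
    exact mem_of_mk_mem_map_pow (by omega) h1
  have hψN : ∀ x ∈ J ^ N, ψ x = 0 := fun x hx => hk x (Ideal.pow_le_pow_right (by omega) hx)
  let ψR : B ⧸ J ^ N →ₐ[A] E ⧸ K := Ideal.Quotient.liftₐ (J ^ N) ψ hψN
  obtain ⟨χ₀, hχ₀⟩ := Algebra.FormallySmooth.exists_lift (R := A) K ⟨2, hK⟩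
    (ψR.comp (Φ.toHom.comp (IsScalarTower.toAlgHom A (B ⧸ J) SS)))
  letI : Algebra (B ⧸ J) E := χ₀.toRingHom.toAlgebra
  have hcomm : ∀ c, ψR (Φ.toHom (algebraMap (B ⧸ J) SS c)) = Ideal.Quotient.mk K (χ₀ c) := fun c =>
    (AlgHom.congr_fun hχ₀ c).symm
  let G : SS →ₐ[B ⧸ J] E ⧸ K :=
    { (ψR.comp Φ.toHom).toRingHom with commutes' := fun c => hcomm c }
  obtain ⟨l, hl⟩ := Module.projective_lifting_property
    (Ideal.Quotient.mkₐ (B ⧸ J) K).toLinearMap
    (G.toLinearMap ∘ₗ SymmetricAlgebra.ι (B ⧸ J) J.Cotangent) Ideal.Quotient.mk_surjective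
  let L : SS →ₐ[B ⧸ J] E := SymmetricAlgebra.lift l
  have hLG : ∀ z, Ideal.Quotient.mk K (L z) = ψR (Φ.toHom z) := by
    have : (Ideal.Quotient.mkₐ (B ⧸ J) K).comp L = G :=
      SymmetricAlgebra.algHom_ext (LinearMap.ext fun p =>
        (congr_arg (Ideal.Quotient.mk K) (SymmetricAlgebra.lift_ι_apply l p)).trans
          (LinearMap.congr_fun hl p))
    exact fun z => AlgHom.congr_fun this z
  let LA : SS →ₐ[A] E :=
    { L.toRingHom with
      commutes' := fun a => by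
        change L (algebraMap A SS a) = algebraMap A E a
        rw [IsScalarTower.algebraMap_apply A (B ⧸ J) SS, AlgHom.commutes]
        exact χ₀.commutes a }
  have hLK : (irr (B ⧸ J) J.Cotangent ^ k).map LA.toRingHom ≤ K := by
    rw [Ideal.map_le_iff_le_comap]
    intro z hz
    rw [Ideal.mem_comap, ← Ideal.Quotient.eq_zero_iff_mem]
    change Ideal.Quotient.mk K (L z) = 0
    rw [hLG]
    have h1 := map_pow_irr_le Φ k (Ideal.mem_map_of_mem Φ.toHom.toRingHom hz)
    rw [← Ideal.map_pow] at h1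
    obtain ⟨b, hb, hbe⟩ := (Ideal.mem_map_iff_of_surjective _ Ideal.Quotient.mk_surjective).1 h1
    change _ = Φ.toHom z at hbe
    rw [← hbe]
    exact hk b hb
  have hkill : ∀ z ∈ RingHom.ker Φ.toHom, LA z = 0 := fun z hz => by
    have h1 := Ideal.mem_map_of_mem LA.toRingHom
      (Ideal.pow_le_pow_right (show k * 2 ≤ N by omega) (hker z hz))
    rw [pow_mul, Ideal.map_pow] at h1
    have h2 := Ideal.pow_right_mono hLK 2 h1
    rwa [hK, Ideal.mem_bot] at h2
  let χ : B ⧸ J ^ N →ₐ[A] E := AlgHom.liftOfSurjective Φ.toHom (surjective Φ) LA hkill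
  refine ⟨χ.comp (Ideal.Quotient.mkₐ A _), AlgHom.ext fun b => ?_⟩
  obtain ⟨z, hz⟩ := surjective Φ (Ideal.Quotient.mk (J ^ N) b)
  change Ideal.Quotient.mk K (χ (Ideal.Quotient.mk (J ^ N) b)) = ψ b
  rw [← hz, AlgHom.liftOfSurjective_apply]
  change Ideal.Quotient.mk K (L z) = _
  rw [hLG, hz]
  rfl

/-- A derivation to the conormal module splitting the conormal sequence. -/
theorem exists_derivation [Algebra.FormallySmooth A (B ⧸ J)] :
    ∃ δ : Derivation A B J.Cotangent, ∀ x : J, δ (x : B) = J.toCotangent x := by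
  classical
  let f : B ⧸ J ^ 2 →ₐ[A] B ⧸ J := Ideal.Quotient.factorₐ A (Ideal.pow_le_self two_ne_zero)
  have hf : Function.Surjective f :=
    Ideal.Quotient.factor_surjective (Ideal.pow_le_self two_ne_zero : J ^ 2 ≤ J)
  have hfker : RingHom.ker f.toRingHom = J.map (Ideal.Quotient.mk (J ^ 2)) :=
    Ideal.Quotient.factor_ker (Ideal.pow_le_self two_ne_zero : J ^ 2 ≤ J)
  have hsq : (J.map (Ideal.Quotient.mk (J ^ 2))) ^ 2 = ⊥ := by
    rw [← Ideal.map_pow, Ideal.map_quotient_self]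
  obtain ⟨σ, hσ⟩ := Algebra.FormallySmooth.exists_lift (RingHom.ker f.toRingHom)
    ⟨2, by rw [hfker, hsq]; rfl⟩ (Ideal.quotientKerAlgEquivOfSurjective hf).symm.toAlgHom
  have hσ' : ∀ c, f (σ c) = c := fun c => by
    exact (congr_arg (Ideal.quotientKerAlgEquivOfSurjective hf) (AlgHom.congr_fun hσ c)).trans
      (AlgEquiv.apply_symm_apply _ c)
  have hmem : ∀ b : B, Ideal.Quotient.mk (J ^ 2) b - σ (Ideal.Quotient.mk J b) ∈
      J.map (Ideal.Quotient.mk (J ^ 2)) := fun b => by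
    rw [← hfker, RingHom.mem_ker, map_sub, sub_eq_zero]
    exact (hσ' _).symm
  let q : J.Cotangent →ₗ[B] B ⧸ J ^ 2 := J.cotangentToQuotientSquare
  have hq : Function.Injective q := J.cotangentToQuotientSquare_injective
  have hqsmul : ∀ (b : B) p, q (b • p) = Ideal.Quotient.mk (J ^ 2) b * q p := fun b p => by
    rw [map_smul, Algebra.smul_def, Ideal.Quotient.algebraMap_eq]
  have hex : ∀ b : B, ∃ p, q p = Ideal.Quotient.mk (J ^ 2) b - σ (Ideal.Quotient.mk J b) := fun b => by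
    obtain ⟨x, hx, hxe⟩ :=
      (Ideal.mem_map_iff_of_surjective _ Ideal.Quotient.mk_surjective).1 (hmem b)
    exact ⟨J.toCotangent ⟨x, hx⟩, hxe⟩
  choose d hd using hex
  let δ : Derivation A B J.Cotangent := Derivation.mk'
    { toFun := d
      map_add' := fun a b => hq (by simp only [map_add, hd]; abel)
      map_smul' := fun a b => hq (by
        rw [RingHom.id_apply, ← algebraMap_smul B a (d b), hqsmul, hd, hd, Algebra.smul_def,
          map_mul, map_mul, map_mul, mul_sub,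
          show Ideal.Quotient.mk J (algebraMap A B a) = algebraMap A (B ⧸ J) a from rfl, σ.commutes]
        rfl) }
    (fun a b => hq (by
      change q (d (a * b)) = q (a • d b + b • d a)
      rw [map_add, hqsmul, hqsmul, hd, hd, hd, map_mul, map_mul, map_mul]
      have h0 := Ideal.mul_mem_mul (hmem a) (hmem b)
      rw [← pow_two, hsq, Ideal.mem_bot] at h0
      linear_combination -h0))
  have hδ : ∀ x : J, δ (x : B) = J.toCotangent x := fun x => hq (by
    change q (d x) = Ideal.Quotient.mk (J ^ 2) (x : B)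
    rw [hd, Ideal.Quotient.eq_zero_iff_mem.2 x.2, map_zero, sub_zero])
  exact ⟨δ, hδ⟩

theorem projective_cotangent [Algebra.FormallySmooth A (B ⧸ J)]
    (h : CAlgX.IsAdicFormallySmooth A B J) : Module.Projective (B ⧸ J) J.Cotangent := by
  obtain ⟨δ, hδ⟩ := exists_derivation (A := A) (J := J)
  let f₀ : J →ₗ[B] (B ⧸ J) ⊗[B] Ω[B⁄A] :=
    { toFun := fun x => (1 : B ⧸ J) ⊗ₜ[B] D A B (x : B)
      map_add' := fun x y => by simp [TensorProduct.tmul_add]
      map_smul' := fun b x => by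
        simp only [Submodule.coe_smul, smul_eq_mul, Derivation.leibniz, TensorProduct.tmul_add,
          TensorProduct.tmul_smul, RingHom.id_apply, add_eq_left]
        rw [TensorProduct.smul_tmul', Algebra.smul_def, Ideal.Quotient.algebraMap_eq,
          Ideal.Quotient.eq_zero_iff_mem.2 x.2, zero_mul, TensorProduct.zero_tmul] }
  let i : J.Cotangent →ₗ[B ⧸ J] (B ⧸ J) ⊗[B] Ω[B⁄A] := LinearMap.extendScalarsOfSurjective
    Ideal.Quotient.mk_surjective (Ideal.Cotangent.lift f₀ fun x y => by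
      change (1 : B ⧸ J) ⊗ₜ[B] D A B ((x : B) * (y : B)) = 0
      rw [Derivation.leibniz, TensorProduct.tmul_add, TensorProduct.tmul_smul,
        TensorProduct.tmul_smul, TensorProduct.smul_tmul', TensorProduct.smul_tmul',
        Algebra.smul_def, Algebra.smul_def, Ideal.Quotient.algebraMap_eq,
        Ideal.Quotient.eq_zero_iff_mem.2 x.2, Ideal.Quotient.eq_zero_iff_mem.2 y.2, zero_mul]
      simp)
  haveI : Module.Projective (B ⧸ J) ((B ⧸ J) ⊗[B] Ω[B⁄A]) :=
    FSAdic.Kaehler.projective_kaehler (isFormallySmoothAdic_bot_iff.1 h) ⟨1, by simp⟩ J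
      ⟨1, (pow_one J).le⟩
  refine Module.Projective.of_split i (δ.liftKaehlerDifferential.liftBaseChange (B ⧸ J))
    (LinearMap.ext fun p => ?_)
  obtain ⟨x, rfl⟩ := J.toCotangent_surjective p
  change (δ.liftKaehlerDifferential.liftBaseChange (B ⧸ J))
    ((1 : B ⧸ J) ⊗ₜ[B] D A B (x : B)) = J.toCotangent x
  rw [LinearMap.liftBaseChange_tmul, one_smul, Derivation.liftKaehlerDifferential_comp_D, hδ]

omit [Fintype ι] in
theorem exists_tprod_const [Unique ι] (t : SymmetricPower B ι J.Cotangent) :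
    ∃ p, t = SymmetricPower.tprod B (fun _ => p) := by
  classical
  have h : t ∈ Submodule.span B (Set.range (SymmetricPower.tprod B (ι := ι) (M := J.Cotangent))) := by
    rw [SymmetricPower.span_tprod_eq_top]
    trivial
  have hupd : ∀ p : J.Cotangent, (fun _ : ι => p) = Function.update (fun _ => 0) default p :=
    fun p => funext fun i => by rw [Subsingleton.elim i default, Function.update_self]
  induction h using Submodule.span_induction with
  | mem z hz =>
    obtain ⟨v, rfl⟩ := hz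
    exact ⟨v default, congr_arg _ (funext fun i => congr_arg v (Subsingleton.elim i default))⟩
  | zero => exact ⟨0, (MultilinearMap.map_zero _).symm⟩
  | add z w _ _ hz hw =>
    obtain ⟨p, rfl⟩ := hz
    obtain ⟨q, rfl⟩ := hw
    exact ⟨p + q, by rw [hupd p, hupd q, hupd (p + q), MultilinearMap.map_update_add]⟩
  | smul b z _ hz =>
    obtain ⟨p, rfl⟩ := hz
    exact ⟨b • p, by rw [hupd p, hupd (b • p), MultilinearMap.map_update_smul]⟩

theorem exists_presentation_two [Algebra.FormallySmooth A (B ⧸ J)]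
    [Module.Projective (B ⧸ J) J.Cotangent] :
    ∃ Φ : Presentation A J 2, RingHom.ker Φ.toHom.toRingHom = irr (B ⧸ J) J.Cotangent ^ 2 ∧
      ∀ x : J, Φ.toHom (SymmetricAlgebra.ι (B ⧸ J) J.Cotangent (J.toCotangent x)) =
        Ideal.Quotient.mk (J ^ 2) (x : B) := by
  obtain ⟨Φ⟩ := exists_presentation (A := A) (J := J) (N := 2) le_rfl
  have h0 : (J.map (Ideal.Quotient.mk (J ^ 2))) ^ 2 = ⊥ := by
    rw [← Ideal.map_pow, Ideal.map_quotient_self]
  refine ⟨Φ, le_antisymm (fun z hz => ker_le Φ (fun j h1 h2 t ht => ?_) z hz) (fun z hz => ?_),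
    fun x => ?_⟩
  · obtain rfl : j = 1 := by omega
    obtain ⟨p, rfl⟩ := exists_tprod_const t
    obtain ⟨x, rfl⟩ := J.toCotangent_surjective p
    rw [prodMap_tprod, Fintype.prod_unique] at ht
    have h3 := sub_mem ht (Φ.sub_mem x)
    rw [sub_sub_cancel] at h3
    rw [(Ideal.toCotangent_eq_zero J x).2 (mem_of_mk_mem_map_pow le_rfl h3)]
    exact MultilinearMap.map_zero _
  · have h1 := map_pow_irr_le Φ 2 (Ideal.mem_map_of_mem Φ.toHom.toRingHom hz)
    rw [h0, Ideal.mem_bot] at h1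
    exact h1
  · have h1 := Φ.sub_mem x
    rwa [h0, Ideal.mem_bot, sub_eq_zero] at h1

/-- Inverse of a presentation modulo higher degrees. -/
theorem exists_inverse [Algebra.FormallySmooth A (B ⧸ J)] [Module.Projective (B ⧸ J) J.Cotangent]
    (h : CAlgX.IsAdicFormallySmooth A B J) {n : ℕ} (hn1 : 1 ≤ n) (Φ : Presentation A J (n + 1))
    {T : Type u} [CommRing T] [Algebra A T] (q : SS →ₐ[A] T) (hq : Function.Surjective q)
    (hqker : RingHom.ker q.toRingHom = irr (B ⧸ J) J.Cotangent ^ (n + 1)) :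
    ∃ ub : B ⧸ J ^ (n + 1) →ₐ[A] T,
      (∀ c : B ⧸ J, ub (Φ.toHom (algebraMap (B ⧸ J) SS c)) - q (algebraMap (B ⧸ J) SS c) ∈
          (irr (B ⧸ J) J.Cotangent).map q.toRingHom) ∧
      ∀ x : J, ub (Ideal.Quotient.mk _ (x : B)) ∈ (irr (B ⧸ J) J.Cotangent).map q.toRingHom ∧
        ub (Ideal.Quotient.mk _ (x : B)) -
          q (SymmetricAlgebra.ι (B ⧸ J) J.Cotangent (J.toCotangent x)) ∈
            ((irr (B ⧸ J) J.Cotangent).map q.toRingHom) ^ 2 := by
  obtain ⟨Φ₂, hker₂, hΦ₂J⟩ := exists_presentation_two (A := A) (J := J)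
  obtain ⟨I, hI⟩ : ∃ I, I = irr (B ⧸ J) J.Cotangent := ⟨_, rfl⟩
  rw [← hI] at hker₂ hqker ⊢
  obtain ⟨I', hI'⟩ : ∃ I', I' = I.map q.toRingHom := ⟨_, rfl⟩
  rw [← hI']
  have hkill : ∀ z ∈ RingHom.ker q, Φ₂.toHom z = 0 := fun z hz => by
    have h1 : z ∈ I ^ 2 := Ideal.pow_le_pow_right (by omega) (hqker.le hz)
    exact hker₂.ge h1
  let g : T →ₐ[A] B ⧸ J ^ 2 := AlgHom.liftOfSurjective q hq Φ₂.toHom hkill
  have hgq : ∀ z, g (q z) = Φ₂.toHom z := AlgHom.liftOfSurjective_apply q hq Φ₂.toHom hkill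
  have hg : Function.Surjective g := fun r => by
    obtain ⟨z, hz⟩ := surjective Φ₂ r
    exact ⟨q z, (hgq z).trans hz⟩
  have hgker : RingHom.ker g.toRingHom ≤ I' ^ 2 := fun y hy => by
    obtain ⟨z, rfl⟩ := hq y
    rw [hI', ← Ideal.map_pow]
    exact Ideal.mem_map_of_mem q.toRingHom (hker₂.le ((hgq z).symm.trans hy))
  have hI'0 : I' ^ (n + 1) = ⊥ := by
    rw [hI', ← Ideal.map_pow, Ideal.map_eq_bot_iff_le_ker, hqker]
  have hgnil : IsNilpotent (RingHom.ker g.toRingHom) := ⟨n + 1, le_bot_iff.1 (by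
    refine (Ideal.pow_right_mono (hgker.trans (Ideal.pow_le_self two_ne_zero)) _).trans ?_
    rw [hI'0])⟩
  obtain ⟨u, hu, -⟩ := FSAdic.Basic.exists_lift (isFormallySmoothAdic_bot_iff.1 h) g hg hgnil
    ⟨1, by simp⟩ (Ideal.Quotient.mkₐ A (J ^ 2)) ⟨2, fun x hx => Ideal.Quotient.eq_zero_iff_mem.2 hx⟩
  have hu2 : ∀ b z, Φ₂.toHom z = Ideal.Quotient.mk (J ^ 2) b → u b - q z ∈ I' ^ 2 := fun b z hz =>
    hgker (by
      change g (u b - q z) = 0
      rw [map_sub, hgq, hz, sub_eq_zero]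
      exact AlgHom.congr_fun hu b)
  have huJ : ∀ x : J, u x - q (SymmetricAlgebra.ι (B ⧸ J) J.Cotangent (J.toCotangent x)) ∈ I' ^ 2 :=
    fun x => hu2 _ _ (hΦ₂J x)
  have huI : J.map u.toRingHom ≤ I' := by
    rw [Ideal.map_le_iff_le_comap]
    intro x hx
    have hmem : q (SymmetricAlgebra.ι (B ⧸ J) J.Cotangent (J.toCotangent ⟨x, hx⟩)) ∈ I' := by
      rw [hI', hI]
      exact Ideal.mem_map_of_mem q.toRingHom (ι_mem_irr _)
    have h1 := add_mem (Ideal.pow_le_self two_ne_zero (huJ ⟨x, hx⟩)) hmem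
    rwa [sub_add_cancel] at h1
  have hukill : ∀ x ∈ J ^ (n + 1), u x = 0 := fun x hx => by
    have h1 := Ideal.mem_map_of_mem u.toRingHom hx
    rw [Ideal.map_pow] at h1
    have h2 := Ideal.pow_right_mono huI (n + 1) h1
    rwa [hI'0, Ideal.mem_bot] at h2
  refine ⟨Ideal.Quotient.liftₐ _ u hukill, fun c => ?_, fun x =>
    ⟨huI (Ideal.mem_map_of_mem u.toRingHom x.2), huJ x⟩⟩
  obtain ⟨b, hb⟩ := Ideal.Quotient.mk_surjective (Φ.toHom (algebraMap (B ⧸ J) SS c))
  have hcb := eq_mk_of_sub_mem Φ _ c b (by rw [sub_self]; exact Submodule.zero_mem _) hb.symm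
  obtain ⟨z, hz⟩ := surjective Φ₂ (Ideal.Quotient.mk (J ^ 2) b)
  obtain ⟨c', hc'⟩ := sub_mem_irr z
  rw [eq_mk_of_sub_mem Φ₂ z c' b hc' hz, ← hcb] at hc'
  rw [← hb]
  change u b - _ ∈ I'
  have hmem : q (z - algebraMap (B ⧸ J) SS c) ∈ I' := by
    rw [hI', hI]
    exact Ideal.mem_map_of_mem q.toRingHom hc'
  have h1 := add_mem (Ideal.pow_le_self two_ne_zero (hu2 b z hz)) hmem
  rwa [map_sub q, sub_add_sub_cancel] at h1

theorem inverse_prodMap [Nonempty ι] {n : ℕ} (hn : n = Fintype.card ι) (Φ : Presentation A J (n + 1))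
    {T : Type u} [CommRing T] [Algebra A T] (q : SS →ₐ[A] T)
    (hqker : RingHom.ker q.toRingHom = irr (B ⧸ J) J.Cotangent ^ (n + 1))
    (ub : B ⧸ J ^ (n + 1) →ₐ[A] T)
    (hub : ∀ c : B ⧸ J, ub (Φ.toHom (algebraMap (B ⧸ J) SS c)) - q (algebraMap (B ⧸ J) SS c) ∈
          (irr (B ⧸ J) J.Cotangent).map q.toRingHom)
    (hubJ : ∀ x : J, ub (Ideal.Quotient.mk _ (x : B)) ∈ (irr (B ⧸ J) J.Cotangent).map q.toRingHom ∧
        ub (Ideal.Quotient.mk _ (x : B)) -
          q (SymmetricAlgebra.ι (B ⧸ J) J.Cotangent (J.toCotangent x)) ∈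
            ((irr (B ⧸ J) J.Cotangent).map q.toRingHom) ^ 2)
    (t : SymmetricPower B ι J.Cotangent) :
    ub (Φ.toHom (prodMap B (B ⧸ J) J.Cotangent ι t)) = q (prodMap B (B ⧸ J) J.Cotangent ι t) := by
  obtain ⟨I', hI'⟩ : ∃ I', I' = (irr (B ⧸ J) J.Cotangent).map q.toRingHom := ⟨_, rfl⟩
  rw [← hI'] at hub hubJ
  have hI'0 : I' ^ (Fintype.card ι + 1) = ⊥ := by
    rw [hI', ← Ideal.map_pow, Ideal.map_eq_bot_iff_le_ker, hqker, hn]
  have hN : (J.map (Ideal.Quotient.mk (J ^ (n + 1)))) ^ (Fintype.card ι + 1) = ⊥ := by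
    rw [← Ideal.map_pow, ← congr_arg (fun k => J ^ (k + 1)) hn, Ideal.map_quotient_self]
  have ht : t ∈ Submodule.span B
      (Set.range (SymmetricPower.tprod B (ι := ι) (M := J.Cotangent))) := by
    rw [SymmetricPower.span_tprod_eq_top]
    trivial
  induction ht using Submodule.span_induction with
  | mem z hz =>
    obtain ⟨p, rfl⟩ := hz
    choose x hx using fun i => J.toCotangent_surjective (p i)
    obtain rfl : (fun i => J.toCotangent (x i)) = p := funext hx
    have h1 := prod_sub_mem Φ x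
    rw [hN, Ideal.mem_bot, sub_eq_zero] at h1
    rw [prodMap_tprod, h1, map_prod, map_prod, map_prod, ← sub_eq_zero, ← Ideal.mem_bot, ← hI'0,
      ← Finset.card_univ]
    exact prod_sub_prod_mem I' Finset.univ _ _ (fun i _ => (hubJ (x i)).1)
      (fun i _ => by rw [hI']; exact Ideal.mem_map_of_mem q.toRingHom (ι_mem_irr _))
      (fun i _ => (hubJ (x i)).2)
  | zero => rw [map_zero, map_zero, map_zero, map_zero]
  | add z w _ _ hz hw => rw [map_add, map_add, map_add, map_add, hz, hw]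
  | smul b z _ hz =>
    rw [map_smul, Algebra.smul_def, map_mul, map_mul, map_mul, hz,
      IsScalarTower.algebraMap_apply B (B ⧸ J) SS, ← sub_eq_zero, ← sub_mul, ← Ideal.mem_bot,
      ← hI'0, pow_succ']
    refine Ideal.mul_mem_mul (hub _) ?_
    rw [hI', ← Ideal.map_pow]
    exact Ideal.mem_map_of_mem q.toRingHom (prodMap_mem z)

theorem exists_quotient {S : Type u} [CommRing S] [Algebra A S] (I : Ideal S) :
    ∃ (T : Type u) (_ : CommRing T) (_ : Algebra A T) (q : S →ₐ[A] T),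
      Function.Surjective q ∧ RingHom.ker q.toRingHom = I :=
  ⟨S ⧸ I, inferInstance, inferInstance, Ideal.Quotient.mkₐ A I, Ideal.Quotient.mk_surjective,
    Ideal.mk_ker⟩

theorem symGrBijective [Algebra.FormallySmooth A (B ⧸ J)] (h : CAlgX.IsAdicFormallySmooth A B J) :
    PP16.SymGrBijective B J := by
  classical
  intro ι _ _
  haveI := projective_cotangent h
  obtain ⟨n, hn⟩ : ∃ n, n = Fintype.card ι := ⟨_, rfl⟩
  have hn1 : 1 ≤ n := hn ▸ Fintype.card_pos
  obtain ⟨Φ⟩ := exists_presentation (A := A) (J := J) (N := n + 1) (by omega)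
  obtain ⟨T, _, _, q, hq, hqker⟩ :=
    exists_quotient (A := A) (irr (B ⧸ J) J.Cotangent ^ (n + 1))
  obtain ⟨ub, hub, hubJ⟩ := exists_inverse h hn1 Φ q hq hqker
  have key := inverse_prodMap (ι := ι) hn Φ q hqker ub hub hubJ
  have hN : (J.map (Ideal.Quotient.mk (J ^ (n + 1)))) ^ (Fintype.card ι + 1) = ⊥ := by
    rw [← Ideal.map_pow, ← congr_arg (fun k => J ^ (k + 1)) hn, Ideal.map_quotient_self]
  obtain ⟨Ψ, hΨ, hΨ0⟩ :=
    exists_leftInv (C := B ⧸ J) (P := J.Cotangent) (ι := ι) (B := B) Ideal.Quotient.mk_surjective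
  -- the map to the graded piece
  let m : ↥(J ^ Fintype.card ι) →ₗ[B] B ⧸ J ^ (n + 1) :=
    (Ideal.Quotient.mkₐ B (J ^ (n + 1))).toLinearMap ∘ₗ (J ^ Fintype.card ι).subtype
  have hm : LinearMap.ker m = Submodule.comap (J ^ Fintype.card ι).subtype (J ^ (Fintype.card ι + 1)) := by
    ext y
    rw [LinearMap.mem_ker, Submodule.mem_comap, congr_arg (fun k => J ^ (k + 1)) hn.symm]
    exact Ideal.Quotient.eq_zero_iff_mem
  let emb : PP16.grJ B J (Fintype.card ι) →ₗ[B] B ⧸ J ^ (n + 1) := Submodule.liftQ _ m hm.ge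
  have hemb : Function.Injective emb :=
    LinearMap.ker_eq_bot.1 (Submodule.ker_liftQ_eq_bot _ _ hm.ge hm.le)
  let Θ : SymmetricPower B ι J.Cotangent →ₗ[B] B ⧸ J ^ (n + 1) :=
    { toFun := fun t => Φ.toHom (prodMap B (B ⧸ J) J.Cotangent ι t)
      map_add' := fun t t' => by rw [map_add, map_add]
      map_smul' := fun b t => by
        rw [RingHom.id_apply, map_smul, Algebra.smul_def, Algebra.smul_def, map_mul,
          Ideal.Quotient.algebraMap_eq, IsScalarTower.algebraMap_apply B (B ⧸ J) SS,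
          ← sub_eq_zero, ← sub_mul, ← Ideal.mem_bot,
          ← hN, pow_succ' _ (Fintype.card ι)]
        refine Ideal.mul_mem_mul ?_ ?_
        · rw [← neg_mem_iff, neg_sub]
          exact Φ.mk_sub_mem b
        · exact map_pow_irr_le Φ _ (Ideal.mem_map_of_mem Φ.toHom.toRingHom (prodMap_mem t)) }
  have hΘ : ∀ t, Θ t ∈ LinearMap.range emb := fun t => by
    obtain ⟨y, hy, -⟩ := exists_lift_prodMap Φ t
    rw [hN, Ideal.mem_bot, sub_eq_zero] at hy
    exact ⟨Submodule.Quotient.mk y, hy.symm⟩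
  let φ : SymmetricPower B ι J.Cotangent →ₗ[B] PP16.grJ B J (Fintype.card ι) :=
    (LinearEquiv.ofInjective emb hemb).symm.toLinearMap ∘ₗ Θ.codRestrict _ hΘ
  have hφ : ∀ t, emb (φ t) = Θ t := fun t =>
    congr_arg Subtype.val ((LinearEquiv.ofInjective emb hemb).apply_symm_apply ⟨Θ t, hΘ t⟩)
  have hval : ∀ x : ι → ↥J,
      φ (SymmetricPower.tprod B (fun i => J.toCotangent (x i))) = PP16.zetaJ B J x := fun x =>
    hemb (by
      rw [hφ]
      change Φ.toHom (prodMap B (B ⧸ J) J.Cotangent ι _) = Ideal.Quotient.mk _ (∏ i, (x i : B))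
      rw [prodMap_tprod, ← sub_eq_zero, ← Ideal.mem_bot]
      have h1 := prod_sub_mem Φ x
      rwa [hN] at h1)
  refine ⟨φ, hval, ?_, ?_⟩
  · rw [← LinearMap.ker_eq_bot, Submodule.eq_bot_iff]
    intro t ht
    have h1 : Φ.toHom (prodMap B (B ⧸ J) J.Cotangent ι t) = 0 := by
      have := hφ t
      rw [LinearMap.mem_ker.1 ht, map_zero] at this
      exact this.symm
    have h2 := key t
    rw [h1, map_zero, eq_comm] at h2
    replace h2 := hqker.le (RingHom.mem_ker.2 h2 : _ ∈ RingHom.ker q.toRingHom)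
    rw [hn] at h2
    exact (hΨ t).symm.trans (hΨ0 _ h2)
  · intro y
    obtain ⟨y, rfl⟩ := Submodule.Quotient.mk_surjective _ y
    have hgen : J ^ Fintype.card ι ≤ Ideal.span (Set.range fun x : ι → J => ∏ i, (x i : B)) := by
      conv_lhs => rw [← Ideal.span_eq J, show (J : Set B) = Set.range (Subtype.val : J → B) from
        Subtype.range_coe.symm]
      rw [Ideal.span, Submodule.span_pow]
      refine Submodule.span_mono fun a ha => ?_
      obtain ⟨f, rfl⟩ := Set.mem_pow.1 ha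
      refine ⟨fun i => ⟨(f (Fintype.equivFin ι i) : B), by
        obtain ⟨q, hq⟩ := (f (Fintype.equivFin ι i)).2; rw [← hq]; exact q.2⟩, ?_⟩
      rw [List.prod_ofFn]
      exact Equiv.prod_comp (Fintype.equivFin ι) fun i => (f i : B)
    suffices ∃ t, Θ t = Ideal.Quotient.mk (J ^ (n + 1)) (y : B) by
      obtain ⟨t, ht⟩ := this
      exact ⟨t, hemb ((hφ t).trans ht)⟩
    have hy := hgen y.2
    generalize (y : B) = b at hy ⊢
    induction hy using Submodule.span_induction with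
    | mem a ha =>
      obtain ⟨x, rfl⟩ := ha
      exact ⟨SymmetricPower.tprod B (fun i => J.toCotangent (x i)),
        by rw [← hφ, hval]; rfl⟩
    | zero => exact ⟨0, by rw [map_zero, map_zero]⟩
    | add a c _ _ ha hc =>
      obtain ⟨t, ht⟩ := ha
      obtain ⟨t', ht'⟩ := hc
      exact ⟨t + t', by rw [map_add, map_add, ht, ht']⟩
    | smul r a _ ha =>
      obtain ⟨t, ht⟩ := ha
      exact ⟨r • t, by rw [map_smul, ht, smul_eq_mul, map_mul]; rfl⟩

end Groth.Agent.Lib.SymGr.Main
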