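import Groth.Agent.Lib.SymGr.Main
import Groth.Agent.Lib.PBasis.FieldSmooth
import Groth.Agent.S4570
import Mathlib.RingTheory.LocalRing.ResidueField.Basic

/-!
# Adically smooth local algebras over a field
-/

universe u

open KaehlerDifferential IsLocalRing
open scoped TensorProduct

namespace Groth.Agent.Lib.SymGr.OverField

/-- Changing the base commutes with the canonical map. -/
theorem map_comp_mapBaseChange (R P k A : Type*) [CommRing R] [CommRing P] [CommRing k] [CommRing A]
    [Algebra R P] [Algebra R k] [Algebra P k] [Algebra R A] [Algebra P A] [Algebra k A]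
    [IsScalarTower R P k] [IsScalarTower R P A] [IsScalarTower R k A] [IsScalarTower P k A] :
    (mapBaseChange P k A) ∘ₗ (KaehlerDifferential.map R P k k).baseChange A =
      (KaehlerDifferential.map R P A A) ∘ₗ (mapBaseChange R k A) := by
  refine TensorProduct.AlgebraTensorModule.ext fun x ω => ?_
  simp only [LinearMap.comp_apply, LinearMap.baseChange_tmul, mapBaseChange_tmul, map_smul]
  congr 1
  have hω : ω ∈ Submodule.span k (Set.range (D R k)) := by
    rw [span_range_derivation]
    trivial
  induction hω using Submodule.span_induction with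
  | mem z hz =>
    obtain ⟨b, rfl⟩ := hz
    rw [map_D, map_D, map_D, map_D]
    rfl
  | zero => simp only [map_zero]
  | add a b _ _ ha hb => simp only [map_add, ha, hb]
  | smul r a _ ha =>
    rw [map_smul (KaehlerDifferential.map R P k k), map_smul (KaehlerDifferential.map P P k A), ha,
      map_smul (KaehlerDifferential.map R R k A)]
    exact ((KaehlerDifferential.map R P A A).map_smul_of_tower r _).symm

variable {k : Type u} [Field k]

/-- Derivations vanish on the prime field. -/
theorem D_bot (x : (⊥ : Subfield k)) : D ℤ (⊥ : Subfield k) x = 0 := by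
  let E : Subfield (⊥ : Subfield k) :=
    { carrier := {x | D ℤ (⊥ : Subfield k) x = 0}
      one_mem' := Derivation.map_one_eq_zero _
      mul_mem' := fun {a b} ha hb => by
        rw [Set.mem_ofPred_eq] at ha hb ⊢
        rw [Derivation.leibniz, ha, hb, smul_zero, smul_zero, add_zero]
      zero_mem' := map_zero _
      add_mem' := fun {a b} ha hb => by
        rw [Set.mem_ofPred_eq] at ha hb ⊢
        rw [map_add, ha, hb, add_zero]
      neg_mem' := fun {a} ha => by
        rw [Set.mem_ofPred_eq] at ha ⊢
        rw [map_neg, ha, neg_zero]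
      inv_mem' := fun a ha => by
        rw [Set.mem_ofPred_eq] at ha ⊢
        rw [Derivation.leibniz_inv, ha, smul_zero] }
  obtain ⟨y, hy, hyx⟩ : (x : k) ∈ E.map (⊥ : Subfield k).subtype := (bot_le : (⊥ : Subfield k) ≤ _) x.2
  obtain rfl : y = x := Subtype.ext hyx
  exact hy

theorem D_bot_algebraMap {A : Type u} [CommRing A] [Algebra (⊥ : Subfield k) A]
    (x : (⊥ : Subfield k)) : D ℤ A (algebraMap (⊥ : Subfield k) A x) = 0 := by
  rw [← map_D ℤ ℤ (⊥ : Subfield k) A, D_bot, map_zero]

/-- Every field extension of the prime field is formally smooth. -/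
theorem formallySmooth_bot (K : Type u) [Field K] [Algebra (⊥ : Subfield k) K] :
    Algebra.FormallySmooth (⊥ : Subfield k) K := by
  haveI : Subsingleton (Ω[(⊥ : Subfield k)⁄ℤ]) := by
    refine subsingleton_of_forall_eq 0 fun ω => ?_
    have hω : ω ∈ Submodule.span (⊥ : Subfield k) (Set.range (D ℤ (⊥ : Subfield k))) := by
      rw [span_range_derivation]
      trivial
    rw [Submodule.span_eq_bot.2 (by rintro _ ⟨x, rfl⟩; exact D_bot x)] at hω
    exact (Submodule.mem_bot _).1 hω
  exact PBasis.FieldSmooth.formallySmooth_iff_injective_int.2 (Function.injective_of_subsingleton _)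

variable {A : Type u} [CommRing A] [IsLocalRing A] [Algebra k A]

theorem iff_symGr_and_injective_bot :
    CAlgX.IsAdicFormallySmooth k A (maximalIdeal A) ↔
      (PP16.SymGrBijective A (maximalIdeal A) ∧
        Function.Injective ((mapBaseChange (⊥ : Subfield k) k A).lTensor (ResidueField A))) := by
  letI : Field (A ⧸ maximalIdeal A) := Ideal.Quotient.field _
  haveI : Algebra.FormallySmooth (⊥ : Subfield k) (A ⧸ maximalIdeal A) := formallySmooth_bot _
  haveI : Algebra.FormallySmooth (⊥ : Subfield k) k := formallySmooth_bot _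
  obtain ⟨h1, h2⟩ := S4570.result (Λ := (⊥ : Subfield k)) (A := k) (maximalIdeal A)
  exact ⟨fun h => let ⟨_, a, b, _⟩ := h2 inferInstance h; ⟨a, b⟩,
    fun ⟨a, b⟩ => h1 ⟨inferInstance, a, b, inferInstance⟩⟩

theorem iff_symGr_and_injective_int :
    CAlgX.IsAdicFormallySmooth k A (maximalIdeal A) ↔
      (PP16.SymGrBijective A (maximalIdeal A) ∧
        Function.Injective ((mapBaseChange ℤ k A).lTensor (ResidueField A))) := by
  rw [iff_symGr_and_injective_bot]
  refine and_congr_right' ?_
  have hk := PBasis.FieldSmooth.map_bijective (⊥ : Subfield k) k fun a => D_bot_algebraMap a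
  have hA := PBasis.FieldSmooth.map_bijective (⊥ : Subfield k) A fun a => D_bot_algebraMap a
  let eA := (LinearEquiv.ofBijective _ hA).lTensor (ResidueField A)
  let ek := ((LinearEquiv.ofBijective _ hk).baseChange k A).lTensor (ResidueField A)
  have h : ∀ x, (mapBaseChange (⊥ : Subfield k) k A).lTensor (ResidueField A) (ek x) =
      eA ((mapBaseChange ℤ k A).lTensor (ResidueField A) x) := fun x => by
    have h' := congr_arg (LinearMap.lTensor (ResidueField A))
      (map_comp_mapBaseChange ℤ (⊥ : Subfield k) k A)
    rw [LinearMap.lTensor_comp, LinearMap.lTensor_comp] at h'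
    exact LinearMap.congr_fun h' x
  have hfun : ⇑((mapBaseChange (⊥ : Subfield k) k A).lTensor (ResidueField A)) ∘ ⇑ek =
      ⇑eA ∘ ⇑((mapBaseChange ℤ k A).lTensor (ResidueField A)) := funext h
  rw [← Function.Injective.of_comp_iff' _ ek.bijective, hfun, eA.injective.of_comp_iff]

end Groth.Agent.Lib.SymGr.OverField
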