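import Groth.Agent.Lib.SymGr.Regular
import Groth.Agent.Lib.SymGr.OverField

/-!
# Regular local rings containing a field have a polynomial graded ring
-/

universe u

open IsLocalRing

namespace Groth.Agent.Lib.SymGr.RegularField

variable {k A : Type u} [Field k] [CommRing A] [IsLocalRing A] [IsNoetherianRing A] [Algebra k A]

include k in
variable (k) in
theorem symGrBijective_iff :
    PP16.SymGrBijective A (maximalIdeal A) ↔ IsRegularLocalRing A := by
  letI : Field (A ⧸ maximalIdeal A) := Ideal.Quotient.field _
  haveI : Algebra.FormallySmooth (⊥ : Subfield k) (A ⧸ maximalIdeal A) :=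
    OverField.formallySmooth_bot _
  haveI : Algebra.FormallySmooth (⊥ : Subfield k) (ResidueField A) :=
    OverField.formallySmooth_bot _
  rw [← Regular.iff_isRegularLocalRing (k := (⊥ : Subfield k))]
  exact ⟨fun h => Main.isAdicFormallySmooth_of_symGr h, fun h => Main.symGrBijective h⟩

theorem iff_regular_and_injective_int :
    CAlgX.IsAdicFormallySmooth k A (maximalIdeal A) ↔
      (IsRegularLocalRing A ∧
        Function.Injective ((KaehlerDifferential.mapBaseChange ℤ k A).lTensor (ResidueField A))) := by
  rw [OverField.iff_symGr_and_injective_int, symGrBijective_iff k]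

end Groth.Agent.Lib.SymGr.RegularField
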