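import Groth.Agent.Lib.SymGr.GeomRegular
import Groth.Agent.Lib.Regular.Serre
import Mathlib.RingTheory.Localization.BaseChange
import Mathlib.RingTheory.Localization.LocalizationLocalization
import Mathlib.RingTheory.Ideal.GoingUp

/-!
# Finite base change and localisation of adically smooth local algebras
-/

universe u

open IsLocalRing
open scoped TensorProduct

namespace Groth.Agent.Lib.SymGr.BaseChange

/-- A localization of a regular ring is regular. -/
theorem isRegularRing_of_isLocalization {R : Type u} [CommRing R] [IsRegularRing R] (M : Submonoid R)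
    (S : Type u) [CommRing S] [Algebra R S] [IsLocalization M S] : IsRegularRing S := by
  haveI := IsLocalization.isNoetherianRing M S inferInstance
  refine isRegularRing_iff.mpr fun q _ => ?_
  haveI := IsLocalization.isLocalization_isLocalization_atPrime_isLocalization M
    (Localization.AtPrime q) q
  exact IsRegularLocalRing.of_ringEquiv
    (IsLocalization.algEquiv (q.comap (algebraMap R S)).primeCompl
      (Localization.AtPrime (q.comap (algebraMap R S))) (Localization.AtPrime q)).toRingEquiv

/-- Regularity of the localizations at maximal ideals suffices. -/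
theorem isRegularRing_of_maximal {R : Type u} [CommRing R] [IsNoetherianRing R]
    (h : ∀ (M : Ideal R) [M.IsMaximal], IsRegularLocalRing (Localization.AtPrime M)) :
    IsRegularRing R := by
  refine isRegularRing_iff.mpr fun p _ => ?_
  obtain ⟨M, hM, hpM⟩ := Ideal.exists_le_maximal p ‹p.IsPrime›.ne_top
  haveI := hM
  haveI := h M
  have hdisj : Disjoint (M.primeCompl : Set R) p :=
    Set.disjoint_left.2 fun x hx hxp => hx (hpM hxp)
  let q : Ideal (Localization.AtPrime M) := p.map (algebraMap R (Localization.AtPrime M))
  haveI : q.IsPrime := IsLocalization.isPrime_of_isPrime_disjoint M.primeCompl _ p ‹_› hdisj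
  have hq : q.comap (algebraMap R (Localization.AtPrime M)) = p :=
    IsLocalization.comap_map_of_isPrime_disjoint M.primeCompl _ ‹p.IsPrime› hdisj
  haveI := IsLocalization.isLocalization_isLocalization_atPrime_isLocalization M.primeCompl
    (Localization.AtPrime q) q
  haveI := Regular.Serre.isRegularLocalRing_localization (R := Localization.AtPrime M) q
  haveI : IsLocalization.AtPrime (Localization.AtPrime q) p := by
    simp only [IsLocalization.AtPrime] at *
    convert (inferInstance : IsLocalization
      (q.comap (algebraMap R (Localization.AtPrime M))).primeCompl (Localization.AtPrime q)) using 2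
    exact hq.symm
  exact IsRegularLocalRing.of_ringEquiv
    (IsLocalization.algEquiv p.primeCompl (Localization.AtPrime q) (Localization.AtPrime p)).toRingEquiv

variable {k A : Type u} [Field k] [CommRing A] [IsLocalRing A] [Algebra k A]

/-- Finite base change followed by localization at a maximal ideal is adically smooth. -/
theorem adic_localization (h : CAlgX.IsAdicFormallySmooth k A (maximalIdeal A))
    (E : Type u) [Field E] [Algebra k E] [Module.Finite k E] (M : Ideal (E ⊗[k] A)) [M.IsMaximal] :
    CAlgX.IsAdicFormallySmooth E (Localization.AtPrime M) (maximalIdeal (Localization.AtPrime M)) := by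
  intro C _ _ J hJ ψ ⟨t, ht⟩
  let T := Localization.AtPrime M
  let inc : A →ₐ[k] E ⊗[k] A := Algebra.TensorProduct.includeRight
  letI : Algebra A (E ⊗[k] A) := Algebra.TensorProduct.rightAlgebra
  haveI : Module.Finite A (E ⊗[k] A) :=
    Module.Finite.equiv (TensorProduct.comm k A E |>.toAddEquiv.toLinearEquiv (fun a t => by
      induction t using TensorProduct.induction_on with
      | zero => simp
      | tmul x y =>
        simp [Algebra.TensorProduct.right_algebraMap_apply, Algebra.smul_def, TensorProduct.smul_tmul']
      | add s t hs ht => simp only [smul_add, map_add, hs, ht]))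
  haveI : Algebra.IsIntegral A (E ⊗[k] A) := Algebra.IsIntegral.of_finite _ _
  have hmM : maximalIdeal A ≤ M.comap inc.toRingHom :=
    (IsLocalRing.eq_maximalIdeal (Ideal.isMaximal_comap_of_isIntegral_of_isMaximal (R := A) M)).ge
  letI : Algebra k C := ((algebraMap E C).comp (algebraMap k E)).toAlgebra
  haveI : IsScalarTower k E C := IsScalarTower.of_algebraMap_eq' rfl
  let toT : E ⊗[k] A →ₐ[E] T := IsScalarTower.toAlgHom E (E ⊗[k] A) T
  let ψA : A →ₐ[k] C ⧸ J :=
    { (ψ.toRingHom.comp (toT.toRingHom.comp inc.toRingHom)) with
      commutes' := fun c => by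
        change ψ (toT (inc (algebraMap k A c))) = algebraMap k (C ⧸ J) c
        rw [inc.commutes, IsScalarTower.algebraMap_apply k E (E ⊗[k] A), toT.commutes, ψ.commutes]
        rfl }
  obtain ⟨v, hv⟩ := h C J hJ ψA ⟨t, fun x hx => ht _ (by
    have h1 : (maximalIdeal A).map (toT.toRingHom.comp inc.toRingHom) ≤ maximalIdeal T := by
      rw [Ideal.map_le_iff_le_comap]
      intro y hy
      rw [Ideal.mem_comap, ← Localization.AtPrime.map_eq_maximalIdeal]
      exact Ideal.mem_map_of_mem _ (hmM hy)
    refine Ideal.pow_right_mono h1 t ?_
    rw [← Ideal.map_pow]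
    exact Ideal.mem_map_of_mem _ hx)⟩
  let w : E ⊗[k] A →ₐ[E] C :=
    Algebra.TensorProduct.lift (Algebra.ofId E C) v fun _ _ => Commute.all _ _
  have hw : ∀ z, Ideal.Quotient.mk J (w z) = ψ (toT z) := by
    intro z
    induction z using TensorProduct.induction_on with
    | zero => simp only [map_zero]
    | add a b ha hb => simp only [map_add, ha, hb]
    | tmul e a =>
      rw [Algebra.TensorProduct.lift_tmul, map_mul,
        show e ⊗ₜ[k] a = algebraMap E (E ⊗[k] A) e * inc a by
          simp [inc, Algebra.TensorProduct.algebraMap_apply], map_mul, map_mul, toT.commutes,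
        ψ.commutes]
      congr 1
      exact AlgHom.congr_fun hv a
  have hunit : ∀ y : M.primeCompl, IsUnit (w y) := fun y => by
    have h1 : IsUnit (Ideal.Quotient.mk J (w y)) := by
      rw [hw]
      exact (IsLocalization.map_units T y).map ψ
    exact isUnit_of_map_unit' J ⟨2, hJ⟩ h1
  refine ⟨IsLocalization.liftAlgHom hunit, IsLocalization.algHom_ext M.primeCompl ?_⟩
  refine AlgHom.ext fun z => ?_
  change Ideal.Quotient.mk J (IsLocalization.lift hunit (algebraMap _ T z)) = ψ (toT z)
  rw [IsLocalization.lift_eq]
  exact hw z
where
  isUnit_of_map_unit' {C : Type u} [CommRing C] (J : Ideal C) (hJ : IsNilpotent J) {c : C}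
      (h : IsUnit (Ideal.Quotient.mk J c)) : IsUnit c := by
    obtain ⟨d, hd⟩ := Ideal.Quotient.mk_surjective (h.unit⁻¹ : (C ⧸ J)ˣ).1
    have h1 : c * d - 1 ∈ J := by
      rw [← Ideal.Quotient.eq, map_mul, hd, map_one]
      exact h.mul_val_inv
    have h2 : IsNilpotent (c * d - 1) := by
      obtain ⟨n, hn⟩ := hJ
      exact ⟨n, by simpa [hn] using Ideal.pow_mem_pow h1 n⟩
    have h3 := h2.isUnit_add_one
    rw [sub_add_cancel] at h3
    exact isUnit_of_mul_isUnit_left h3

variable [IsNoetherianRing A]

theorem isRegularRing_baseChange (h : CAlgX.IsAdicFormallySmooth k A (maximalIdeal A))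
    (E : Type u) [Field E] [Algebra k E] [Module.Finite k E] : IsRegularRing (E ⊗[k] A) := by
  haveI : IsNoetherianRing (E ⊗[k] A) := by
    haveI : Algebra.FiniteType A (A ⊗[k] E) := inferInstance
    haveI := Algebra.FiniteType.isNoetherianRing A (A ⊗[k] E)
    exact isNoetherianRing_of_ringEquiv _ (Algebra.TensorProduct.comm k A E).toRingEquiv
  refine isRegularRing_of_maximal fun M _ => ?_
  exact (RegularField.symGrBijective_iff E).1
    (OverField.iff_symGr_and_injective_int.1 (adic_localization h E M)).1

/-- The criterion by height one extensions. -/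
theorem iff_forall_regular (p : ℕ) [ExpChar k p] :
    CAlgX.IsAdicFormallySmooth k A (maximalIdeal A) ↔
      ∀ (k' : Type u) [Field k'] [Algebra k k'], Module.Finite k k' →
        (∀ x : k', x ^ p ∈ (algebraMap k k').range) → IsRegularRing (k' ⊗[k] A) := by
  refine ⟨fun h k' _ _ hfin _ => by haveI := hfin; exact isRegularRing_baseChange h k', fun h => ?_⟩
  haveI : IsRegularLocalRing A := by
    haveI := h k inferInstance (fun x => ⟨x ^ p, by simp⟩)
    haveI := IsRegularRing.of_ringEquiv (Algebra.TensorProduct.lid k A).toRingEquiv
    exact IsRegularLocalRing.of_isRegularRing_of_isLocalRing A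
  obtain hq | hprime := expChar_is_prime_or_one k p |>.symm
  · haveI : CharZero k := by
      subst hq
      exact charZero_of_expChar_one' k
    haveI : Algebra.FormallySmooth k (ResidueField A) := PBasis.FieldSmooth.tfae_charZero.1
    exact Regular.adic_of_isRegularLocalRing
  · haveI := Fact.mk hprime
    haveI : CharP k p := by
      cases ‹ExpChar k p› with
      | zero => exact absurd hprime Nat.not_prime_one
      | prime _ => assumption
    exact OverField.iff_symGr_and_injective_bot.2
      ⟨(RegularField.symGrBijective_iff k).2 inferInstance,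
        GeomRegular.injective_of_forall_regular p h⟩

/-- Localisation at any prime. -/
theorem adic_localization_atPrime (h : CAlgX.IsAdicFormallySmooth k A (maximalIdeal A))
    (P : Ideal A) [P.IsPrime] :
    CAlgX.IsAdicFormallySmooth k (Localization.AtPrime P) (maximalIdeal (Localization.AtPrime P)) := by
  obtain ⟨p, hp⟩ := ExpChar.exists k
  refine (iff_forall_regular p).2 fun E _ _ _ _ => ?_
  haveI := isRegularRing_baseChange h E
  let M := P.primeCompl.map (Algebra.TensorProduct.includeRight (R := k) (A := E) (B := A))
  haveI := isRegularRing_of_isLocalization M (Localization M)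
  exact IsRegularRing.of_ringEquiv
    (IsLocalization.tensorProductEquivOfMapIncludeRight k E P.primeCompl (Localization.AtPrime P)
      (Localization M)).toRingEquiv.symm

end Groth.Agent.Lib.SymGr.BaseChange
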