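import Mathlib.RingTheory.RegularLocalRing.Defs
import Mathlib.RingTheory.TensorProduct.Basic
import Mathlib.Algebra.TrivSqZeroExt.Basic
import Mathlib.Algebra.CharP.Lemmas
import Mathlib.Algebra.CharP.Algebra
import Mathlib.RingTheory.TensorProduct.Finite
import Mathlib.RingTheory.Flat.Basic
import Groth.Agent.Lib.Dim.Integral

/-!
# Purely inseparable base change of local rings
-/

universe u

open IsLocalRing
open scoped TensorProduct

namespace Groth.Agent.Lib.SymGr.LocalStep

/-- Fewer generators than the dimension cannot generate. -/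
theorem coeff_mem_maximalIdeal {R : Type u} [CommRing R] [IsLocalRing R] [IsNoetherianRing R]
    {d : ℕ} (hd : (maximalIdeal R).spanFinrank = d) (w : Fin d → R)
    (hw : ∀ l, w l ∈ maximalIdeal R)
    (hgen : maximalIdeal R ≤ Ideal.span (Set.range w) ⊔ maximalIdeal R ^ 2)
    (c : Fin d → R) (hc : ∑ l, c l * w l ∈ maximalIdeal R ^ 2) (j : Fin d) :
    c j ∈ maximalIdeal R := by
  classical
  by_contra hj
  have hu : IsUnit (c j) := by simpa [mem_maximalIdeal] using hj
  let N : Ideal R := Ideal.span (w '' ((Finset.univ.erase j : Finset (Fin d)) : Set (Fin d)))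
  have hle : maximalIdeal R ≤ N := by
    refine Submodule.le_of_le_smul_of_le_jacobson_bot (IsNoetherian.noetherian _)
      (jacobson_eq_maximalIdeal ⊥ bot_ne_top).ge ?_
    rw [smul_eq_mul, ← pow_two]
    refine hgen.trans (sup_le ?_ le_sup_right)
    rw [Ideal.span_le]
    rintro _ ⟨i, rfl⟩
    by_cases hij : i = j
    · subst hij
      refine (Ideal.unit_mul_mem_iff_mem _ hu).1 ?_
      rw [← Finset.add_sum_erase _ _ (Finset.mem_univ i)] at hc
      have h5 : ∑ l ∈ Finset.univ.erase i, c l * w l ∈ N := Submodule.sum_mem _ fun l hl =>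
        Ideal.mul_mem_left _ _ (Ideal.subset_span ⟨l, hl, rfl⟩)
      have h6 := sub_mem (Ideal.mem_sup_right hc : _ ∈ N ⊔ maximalIdeal R ^ 2) (Ideal.mem_sup_left h5)
      rwa [add_sub_cancel_right] at h6
    · exact Ideal.mem_sup_left (Ideal.subset_span ⟨i, by simp [hij], rfl⟩)
  have heq : maximalIdeal R = N := le_antisymm hle (Ideal.span_le.2 (by
    rintro _ ⟨i, -, rfl⟩
    exact hw i))
  have h7 : (maximalIdeal R).spanFinrank ≤ d - 1 := by
    rw [heq]
    refine (Submodule.spanFinrank_span_le_ncard_of_finite ((Finset.finite_toSet _).image w)).trans ?_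
    refine (Set.ncard_image_le (Finset.finite_toSet _)).trans ?_
    rw [Set.ncard_coe_finset, Finset.card_erase_of_mem (Finset.mem_univ j), Finset.card_univ,
      Fintype.card_fin]
  have := j.pos
  omega

variable {k E A : Type u} [Field k] [Field E] [Algebra k E] [CommRing A] [Algebra k A]
  (p : ℕ) [Fact p.Prime] [CharP k p]

theorem pow_mem_range (hE : ∀ x : E, x ^ p ∈ (algebraMap k E).range) (z : E ⊗[k] A) :
    z ^ p ∈ (Algebra.TensorProduct.includeRight : A →ₐ[k] E ⊗[k] A).range := by
  cases subsingleton_or_nontrivial (E ⊗[k] A)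
  · exact ⟨0, Subsingleton.elim _ _⟩
  haveI : CharP (E ⊗[k] A) p :=
    charP_of_injective_ringHom (f := algebraMap k (E ⊗[k] A)) (RingHom.injective _) p
  haveI : ExpChar (E ⊗[k] A) p := ExpChar.prime Fact.out
  induction z using TensorProduct.induction_on with
  | zero => exact ⟨0, by simp [(Fact.out : p.Prime).ne_zero]⟩
  | tmul x a =>
    obtain ⟨c, hc⟩ := hE x
    refine ⟨c • a ^ p, ?_⟩
    rw [Algebra.TensorProduct.tmul_pow, ← hc]
    change (1 : E) ⊗ₜ[k] (c • a ^ p) = algebraMap k E c ⊗ₜ[k] (a ^ p)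
    rw [TensorProduct.tmul_smul, TensorProduct.smul_tmul', Algebra.smul_def, mul_one]
  | add a b ha hb => rw [add_pow_expChar]; exact add_mem ha hb

theorem includeRight_injective :
    Function.Injective (Algebra.TensorProduct.includeRight : A →ₐ[k] E ⊗[k] A) :=
  Algebra.TensorProduct.includeRight_injective (algebraMap k E).injective

variable [IsLocalRing A]

theorem isUnit_iff (hE : ∀ x : E, x ^ p ∈ (algebraMap k E).range) (z : E ⊗[k] A) (a : A)
    (ha : (Algebra.TensorProduct.includeRight : A →ₐ[k] E ⊗[k] A) a = z ^ p) :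
    IsUnit z ↔ IsUnit a := by
  refine ⟨fun hz => ?_, fun hu => ?_⟩
  · obtain ⟨b, hb⟩ := pow_mem_range p hE ((hz.unit⁻¹ : (E ⊗[k] A)ˣ) : E ⊗[k] A)
    refine IsUnit.of_mul_eq_one b (includeRight_injective (k := k) (E := E) ?_)
    rw [map_mul, ha, map_one]
    change _ * (Algebra.TensorProduct.includeRight : A →ₐ[k] E ⊗[k] A) b = 1
    rw [show (Algebra.TensorProduct.includeRight : A →ₐ[k] E ⊗[k] A) b =
      ((hz.unit⁻¹ : (E ⊗[k] A)ˣ) : E ⊗[k] A) ^ p from hb, ← mul_pow, IsUnit.mul_val_inv, one_pow]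
  · have h := hu.map (Algebra.TensorProduct.includeRight : A →ₐ[k] E ⊗[k] A)
    rw [ha] at h
    exact (isUnit_pow_iff (Fact.out : p.Prime).ne_zero).1 h

theorem isLocalRing (hE : ∀ x : E, x ^ p ∈ (algebraMap k E).range) : IsLocalRing (E ⊗[k] A) := by
  haveI : Nontrivial (E ⊗[k] A) := (includeRight_injective (k := k) (E := E) (A := A)).nontrivial
  haveI : CharP (E ⊗[k] A) p :=
    charP_of_injective_ringHom (f := algebraMap k (E ⊗[k] A)) (RingHom.injective _) p
  haveI : ExpChar (E ⊗[k] A) p := ExpChar.prime Fact.out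
  refine IsLocalRing.of_nonunits_add fun y z hy hz => ?_
  obtain ⟨a, ha⟩ := pow_mem_range p hE y
  obtain ⟨b, hb⟩ := pow_mem_range p hE z
  rw [mem_nonunits_iff, isUnit_iff p hE y a ha] at hy
  rw [mem_nonunits_iff, isUnit_iff p hE z b hb] at hz
  rw [mem_nonunits_iff, isUnit_iff p hE (y + z) (a + b) (by
    rw [map_add, add_pow_expChar]; exact congr_arg₂ (· + ·) ha hb)]
  exact fun hu => (IsLocalRing.nonunits_add hy hz) hu

theorem ringKrullDim_tensor [Module.Finite k E] : ringKrullDim (E ⊗[k] A) = ringKrullDim A := by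
  letI : Algebra A (E ⊗[k] A) := Algebra.TensorProduct.rightAlgebra
  haveI : FaithfulSMul A (E ⊗[k] A) :=
    (faithfulSMul_iff_algebraMap_injective A _).2 (includeRight_injective (k := k) (E := E))
  haveI : Module.Finite A (E ⊗[k] A) :=
    Module.Finite.equiv (TensorProduct.comm k A E |>.toAddEquiv.toLinearEquiv (fun a t => by
      induction t using TensorProduct.induction_on with
      | zero => simp
      | tmul x y =>
        simp [Algebra.TensorProduct.right_algebraMap_apply, Algebra.smul_def, TensorProduct.smul_tmul']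
      | add s t hs ht => simp only [smul_add, map_add, hs, ht]))
  haveI : Algebra.IsIntegral A (E ⊗[k] A) := Algebra.IsIntegral.of_finite _ _
  exact Lib.Dim.Integral.ringKrullDim_eq_of_isIntegral

end Groth.Agent.Lib.SymGr.LocalStep
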