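import Mathlib.LinearAlgebra.TensorPower.Symmetric
import Mathlib.LinearAlgebra.SymmetricAlgebra.Basic
import Mathlib.RingTheory.MvPolynomial.Ideal
import Mathlib.Algebra.Module.Projective
import Mathlib.LinearAlgebra.Multilinear.Basis

/-!
# Homogeneous parts of the symmetric algebra of a projective module
-/

universe u

open scoped TensorProduct

namespace Groth.Agent.Lib.SymGr.Core

section symLift

variable {R ι : Type u} [CommSemiring R] {M N : Type u} [AddCommMonoid M] [Module R M]
  [AddCommMonoid N] [Module R N]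

/-- A symmetric multilinear map factors through the symmetric power. -/
noncomputable def symLift (f : MultilinearMap R (fun _ : ι => M) N)
    (hf : ∀ (e : Equiv.Perm ι) (v : ι → M), f (fun i => v (e i)) = f v) :
    SymmetricPower R ι M →ₗ[R] N where
  __ := AddCon.lift (addConGen (SymmetricPower.Rel R ι M)) (PiTensorProduct.lift f).toAddMonoidHom
    (AddCon.addConGen_le.2 (fun a b h => by
      cases h with
      | perm e v =>
        rw [AddCon.ker_rel, LinearMap.toAddMonoidHom_coe, PiTensorProduct.lift.tprod,
          PiTensorProduct.lift.tprod, hf]))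
  map_smul' r x := AddCon.induction_on x fun x => (PiTensorProduct.lift f).map_smul r x

theorem symLift_tprod (f : MultilinearMap R (fun _ : ι => M) N)
    (hf : ∀ (e : Equiv.Perm ι) (v : ι → M), f (fun i => v (e i)) = f v) (v : ι → M) :
    symLift f hf (SymmetricPower.tprod R v) = f v :=
  PiTensorProduct.lift.tprod (φ := f) v

end symLift

variable {B C : Type u} [CommRing B] [CommRing C] [Algebra B C] {P : Type u} [AddCommGroup P]
  [Module B P] [Module C P] [IsScalarTower B C P] {ι : Type u} [Fintype ι]

/-- The irrelevant ideal. -/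
noncomputable def irr (C P : Type u) [CommRing C] [AddCommGroup P] [Module C P] :
    Ideal (SymmetricAlgebra C P) :=
  Ideal.span (Set.range (SymmetricAlgebra.ι C P))

theorem ι_mem_irr (p : P) : SymmetricAlgebra.ι C P p ∈ irr C P :=
  Ideal.subset_span ⟨p, rfl⟩

theorem prod_mem_irr (p : ι → P) :
    ∏ i, SymmetricAlgebra.ι C P (p i) ∈ irr C P ^ Fintype.card ι := by
  rw [← Finset.card_univ, ← Finset.prod_const]
  exact Ideal.prod_mem_prod fun i _ => ι_mem_irr (p i)

/-- The product map to the symmetric algebra. -/
noncomputable def prodMap (B C P : Type u) [CommRing B] [CommRing C] [Algebra B C] [AddCommGroup P]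
    [Module B P] [Module C P] [IsScalarTower B C P] (ι : Type u) [Fintype ι] :
    SymmetricPower B ι P →ₗ[B] SymmetricAlgebra C P :=
  symLift
    ((MultilinearMap.mkPiAlgebra B ι (SymmetricAlgebra C P)).compLinearMap
      fun _ => (SymmetricAlgebra.ι C P).restrictScalars B)
    (fun e v => Equiv.prod_comp e fun i => SymmetricAlgebra.ι C P (v i))

theorem prodMap_tprod (p : ι → P) :
    prodMap B C P ι (SymmetricPower.tprod B p) = ∏ i, SymmetricAlgebra.ι C P (p i) := by
  rw [prodMap, symLift_tprod]
  rfl

theorem prodMap_mem (t : SymmetricPower B ι P) :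
    prodMap B C P ι t ∈ irr C P ^ Fintype.card ι := by
  have h : t ∈ Submodule.span B (Set.range (SymmetricPower.tprod B (ι := ι) (M := P))) := by
    rw [SymmetricPower.span_tprod_eq_top]
    trivial
  induction h using Submodule.span_induction with
  | mem x hx => obtain ⟨p, rfl⟩ := hx; rw [prodMap_tprod]; exact prod_mem_irr p
  | zero => rw [map_zero]; exact Submodule.zero_mem _
  | add x y _ _ hx hy => rw [map_add]; exact add_mem hx hy
  | smul b x _ hx =>
    rw [map_smul, Algebra.smul_def]
    exact Ideal.mul_mem_left _ _ hx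

omit [Fintype ι] in
/-- Elements killed by `B → C` kill the symmetric powers of positive degree. -/
theorem smul_eq_zero_of_ker [Nonempty ι] (b : B) (hb : algebraMap B C b = 0)
    (t : SymmetricPower B ι P) : b • t = 0 := by
  classical
  have h : t ∈ Submodule.span B (Set.range (SymmetricPower.tprod B (ι := ι) (M := P))) := by
    rw [SymmetricPower.span_tprod_eq_top]
    trivial
  induction h using Submodule.span_induction with
  | mem x hx =>
    obtain ⟨p, rfl⟩ := hx
    obtain ⟨i⟩ := ‹Nonempty ι›
    conv_lhs => rw [← Function.update_eq_self i p]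
    rw [← MultilinearMap.map_update_smul, ← algebraMap_smul C b (p i), hb, zero_smul,
      MultilinearMap.map_update_zero]
  | zero => exact smul_zero b
  | add x y _ _ hx hy => rw [smul_add, hx, hy, add_zero]
  | smul c x _ hx => rw [smul_comm, hx, smul_zero]

theorem exists_perm_of_sum_single_eq {κ : Type*} (g g' : ι → κ)
    (h : ∑ i, Finsupp.single (g i) 1 = ∑ i, Finsupp.single (g' i) (1 : ℕ)) :
    ∃ e : Equiv.Perm ι, ∀ i, g' (e i) = g i := by
  classical
  have hc : ∀ a, Fintype.card {i // g i = a} = Fintype.card {i // g' i = a} := fun a => by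
    have h' := DFunLike.congr_fun h a
    simp only [Finsupp.finsetSum_apply, Finsupp.single_apply, Finset.sum_boole, Nat.cast_id] at h'
    rwa [Fintype.card_subtype, Fintype.card_subtype]
  let e := Equiv.ofFiberEquiv (f := g) (g := g') fun a => Fintype.equivOfCardEq (hc a)
  exact ⟨e, fun i => Equiv.ofFiberEquiv_map _ i⟩

/-- The symmetric power is a retract of the symmetric algebra, killing higher degrees. -/
theorem exists_leftInv [Nonempty ι] [Module.Projective C P]
    (hsurj : Function.Surjective (algebraMap B C)) :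
    ∃ Ψ : SymmetricAlgebra C P →+ SymmetricPower B ι P,
      (∀ t, Ψ (prodMap B C P ι t) = t) ∧
        ∀ z ∈ irr C P ^ (Fintype.card ι + 1), Ψ z = 0 := by
  classical
  let act : C →+* Module.End B (SymmetricPower B ι P) :=
    RingHom.liftOfSurjective (algebraMap B C) hsurj
      ⟨algebraMap B (Module.End B (SymmetricPower B ι P)), fun b hb => RingHom.mem_ker.2 <|
        LinearMap.ext fun t => smul_eq_zero_of_ker b (RingHom.mem_ker.1 hb) t⟩
  letI : Module C (SymmetricPower B ι P) := Module.compHom _ act
  haveI : IsScalarTower B C (SymmetricPower B ι P) :=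
    IsScalarTower.of_algebraMap_smul fun b t =>
      show act (algebraMap B C b) t = b • t by
        simp only [act, RingHom.liftOfSurjective_comp_apply]
        rfl
  obtain ⟨s, hs⟩ := Module.projective_def'.1 ‹Module.Projective C P›
  let tp : MultilinearMap C (fun _ : ι => P) (SymmetricPower B ι P) :=
    MultilinearMap.mk' (fun p => SymmetricPower.tprod B p)
      (fun p i x y => MultilinearMap.map_update_add _ p i x y)
      (fun p i c x => by
        obtain ⟨b, rfl⟩ := hsurj c
        rw [algebraMap_smul, algebraMap_smul, MultilinearMap.map_update_smul])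
  let T : (P →₀ ℕ) → SymmetricPower B ι P := fun d =>
    if h : ∃ g : ι → P, ∑ i, Finsupp.single (g i) 1 = d then tp h.choose else 0
  have hT : ∀ g : ι → P, T (∑ i, Finsupp.single (g i) 1) = tp g := fun g => by
    have hg : ∃ g' : ι → P, ∑ i, Finsupp.single (g' i) 1 = ∑ i, Finsupp.single (g i) 1 := ⟨g, rfl⟩
    obtain ⟨e, he⟩ := exists_perm_of_sum_single_eq g hg.choose hg.choose_spec.symm
    simp only [T, dif_pos hg]
    change SymmetricPower.tprod B hg.choose = SymmetricPower.tprod B g
    rw [← SymmetricPower.tprod_equiv e]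
    exact congr_arg _ (funext he)
  let Ψ₀ : MvPolynomial P C →ₗ[C] SymmetricPower B ι P :=
    (MvPolynomial.basisMonomials P C).constr C T
  have hΨ₀ : ∀ d, Ψ₀ (MvPolynomial.monomial d 1) = T d := fun d => by
    have h := (MvPolynomial.basisMonomials P C).constr_basis C T d
    rwa [MvPolynomial.coe_basisMonomials] at h
  let L : (P →₀ C) →ₗ[C] MvPolynomial P C := Finsupp.linearCombination C MvPolynomial.X
  let π : (P →₀ C) →ₗ[C] P := Finsupp.linearCombination C id
  have hmul : Ψ₀.compMultilinearMap
      ((MultilinearMap.mkPiAlgebra C ι (MvPolynomial P C)).compLinearMap fun _ => L) =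
        tp.compLinearMap fun _ => π :=
    Module.Basis.ext_multilinear (fun _ => Finsupp.basisSingleOne) fun g => by
      simp only [LinearMap.compMultilinearMap_apply, MultilinearMap.compLinearMap_apply,
        MultilinearMap.mkPiAlgebra_apply, Finsupp.coe_basisSingleOne, L, π,
        Finsupp.linearCombination_single, one_smul, id_eq]
      rw [show ∏ i, (MvPolynomial.X (g i) : MvPolynomial P C) =
        MvPolynomial.monomial (∑ i, Finsupp.single (g i) 1) 1 from
          (MvPolynomial.monomial_sum_one _ _).symm, hΨ₀, hT]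
  let ρ : SymmetricAlgebra C P →ₐ[C] MvPolynomial P C := SymmetricAlgebra.lift (L ∘ₗ s)
  refine ⟨Ψ₀.toAddMonoidHom.comp ρ.toRingHom.toAddMonoidHom, fun t => ?_, fun z hz => ?_⟩
  · have h : t ∈ Submodule.span B (Set.range (SymmetricPower.tprod B (ι := ι) (M := P))) := by
      rw [SymmetricPower.span_tprod_eq_top]
      trivial
    change Ψ₀ (ρ (prodMap B C P ι t)) = t
    induction h using Submodule.span_induction with
    | mem x hx =>
      obtain ⟨p, rfl⟩ := hx
      rw [prodMap_tprod, map_prod]
      simp only [ρ, SymmetricAlgebra.lift_ι_apply, LinearMap.comp_apply]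
      refine (DFunLike.congr_fun hmul fun i => s (p i)).trans ?_
      change SymmetricPower.tprod B (fun i => π (s (p i))) = _
      exact congr_arg _ (funext fun i => LinearMap.congr_fun hs (p i))
    | zero => rw [map_zero, map_zero, map_zero]
    | add x y _ _ hx hy => rw [map_add, map_add, map_add, hx, hy]
    | smul b x _ hx =>
      rw [map_smul, ← algebraMap_smul C b (prodMap B C P ι x), map_smul, map_smul, hx,
        algebraMap_smul]
  · change Ψ₀ (ρ z) = 0
    have hle : (irr C P).map ρ.toRingHom ≤ MvPolynomial.idealOfVars P C := by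
      rw [irr, Ideal.map_span, Ideal.span_le]
      rintro _ ⟨_, ⟨p, rfl⟩, rfl⟩
      change ρ (SymmetricAlgebra.ι C P p) ∈ MvPolynomial.idealOfVars P C
      rw [show ρ (SymmetricAlgebra.ι C P p) = L (s p) from SymmetricAlgebra.lift_ι_apply _ p]
      simp only [L, Finsupp.linearCombination_apply, Finsupp.sum]
      exact Submodule.sum_mem _ fun a _ =>
        Submodule.smul_of_tower_mem _ _ (Ideal.subset_span ⟨a, rfl⟩)
    have hz' : ρ z ∈ MvPolynomial.idealOfVars P C ^ (Fintype.card ι + 1) := by
      refine Ideal.pow_right_mono hle _ ?_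
      rw [← Ideal.map_pow]
      exact Ideal.mem_map_of_mem ρ.toRingHom hz
    rw [MvPolynomial.mem_pow_idealOfVars_iff] at hz'
    rw [(ρ z).as_sum, map_sum]
    refine Finset.sum_eq_zero fun d hd => ?_
    rw [show MvPolynomial.monomial d ((ρ z).coeff d) = (ρ z).coeff d • MvPolynomial.monomial d 1 by
      rw [MvPolynomial.smul_monomial, smul_eq_mul, mul_one], map_smul, hΨ₀]
    have hd' := hz' d hd
    simp only [T]
    rw [dif_neg, smul_zero]
    rintro ⟨g, rfl⟩
    rw [map_sum] at hd'
    simp at hd'

/-- Modulo higher degrees, `I ^ n` is spanned by products. -/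
theorem exists_prodMap_sub_mem [Nonempty ι]
    (hsurj : Function.Surjective (algebraMap B C)) (z : SymmetricAlgebra C P)
    (hz : z ∈ irr C P ^ Fintype.card ι) :
    ∃ t : SymmetricPower B ι P, z - prodMap B C P ι t ∈ irr C P ^ (Fintype.card ι + 1) := by
  classical
  obtain ⟨n, hn⟩ : ∃ n, n = Fintype.card ι := ⟨_, rfl⟩
  have hgen : irr C P ^ Fintype.card ι = Ideal.span
      (Set.range fun p : ι → P => ∏ i, SymmetricAlgebra.ι C P (p i)) := by
    refine le_antisymm ?_ (Ideal.span_le.2 ?_)
    · rw [irr, Ideal.span, Submodule.span_pow]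
      refine Submodule.span_mono fun a ha => ?_
      obtain ⟨f, rfl⟩ := Set.mem_pow.1 ha
      choose q hq using fun i => (f i).2
      refine ⟨fun i => q (Fintype.equivFin ι i), ?_⟩
      simp only [hq]
      rw [List.prod_ofFn]
      exact Equiv.prod_comp (Fintype.equivFin ι) fun i => ((f i : SymmetricAlgebra C P))
    · rintro _ ⟨p, rfl⟩
      exact prod_mem_irr p
  rw [hgen] at hz
  induction hz using Submodule.span_induction with
  | mem x hx =>
    obtain ⟨p, rfl⟩ := hx
    exact ⟨SymmetricPower.tprod B p, by rw [prodMap_tprod, sub_self]; exact Submodule.zero_mem _⟩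
  | zero => exact ⟨0, by rw [map_zero, sub_zero]; exact Submodule.zero_mem _⟩
  | add x y _ _ hx hy =>
    obtain ⟨t, ht⟩ := hx
    obtain ⟨t', ht'⟩ := hy
    exact ⟨t + t', by rw [map_add, add_sub_add_comm]; exact add_mem ht ht'⟩
  | smul r x hxI hx =>
    obtain ⟨t, ht⟩ := hx
    obtain ⟨c, hc⟩ : ∃ c : C, r - algebraMap C (SymmetricAlgebra C P) c ∈ irr C P := by
      induction r using SymmetricAlgebra.induction with
      | algebraMap c => exact ⟨c, by rw [sub_self]; exact Submodule.zero_mem _⟩
      | ι p => exact ⟨0, by rw [map_zero, sub_zero]; exact ι_mem_irr p⟩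
      | mul a b ha hb =>
        obtain ⟨c, hc⟩ := ha
        obtain ⟨c', hc'⟩ := hb
        exact ⟨c * c', by rw [map_mul]; exact Ideal.mul_sub_mul_mem _ hc hc'⟩
      | add a b ha hb =>
        obtain ⟨c, hc⟩ := ha
        obtain ⟨c', hc'⟩ := hb
        exact ⟨c + c', by rw [map_add, add_sub_add_comm]; exact add_mem hc hc'⟩
    obtain ⟨b, rfl⟩ := hsurj c
    refine ⟨b • t, ?_⟩
    rw [map_smul, Algebra.smul_def b (prodMap B C P ι t), smul_eq_mul,
      IsScalarTower.algebraMap_apply B C (SymmetricAlgebra C P)]
    have h1 : (r - algebraMap C (SymmetricAlgebra C P) (algebraMap B C b)) * x ∈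
        irr C P ^ (Fintype.card ι + 1) := by
      rw [pow_succ']
      exact Ideal.mul_mem_mul hc (hgen ▸ hxI)
    have h2 := add_mem h1 (Ideal.mul_mem_left _
      (algebraMap C (SymmetricAlgebra C P) (algebraMap B C b)) ht)
    convert h2 using 1
    ring

/-- Products of congruent elements of an ideal. -/
theorem prod_sub_prod_mem {S : Type*} [CommRing S] (I : Ideal S) {κ : Type*} (s : Finset κ)
    (a b : κ → S) (ha : ∀ i ∈ s, a i ∈ I) (hb : ∀ i ∈ s, b i ∈ I)
    (hab : ∀ i ∈ s, a i - b i ∈ I ^ 2) :
    ∏ i ∈ s, a i - ∏ i ∈ s, b i ∈ I ^ (s.card + 1) := by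
  classical
  induction s using Finset.induction_on with
  | empty => simp
  | @insert j s hj ih =>
    simp only [Finset.forall_mem_insert] at ha hb hab
    rw [Finset.prod_insert hj, Finset.prod_insert hj, Finset.card_insert_of_notMem hj,
      show a j * ∏ i ∈ s, a i - b j * ∏ i ∈ s, b i =
        (a j - b j) * ∏ i ∈ s, a i + b j * (∏ i ∈ s, a i - ∏ i ∈ s, b i) by ring]
    refine add_mem ?_ ?_
    · rw [show s.card + 1 + 1 = 2 + s.card by omega, pow_add]
      refine Ideal.mul_mem_mul hab.1 ?_
      rw [← Finset.prod_const]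
      exact Ideal.prod_mem_prod fun i hi => ha.2 i hi
    · rw [pow_succ']
      exact Ideal.mul_mem_mul hb.1 (ih ha.2 hb.2 hab.2)

end Groth.Agent.Lib.SymGr.Core
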