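import Groth.Agent.Lib.SymGr.RegularField
import Groth.Agent.Lib.SymGr.LocalStep
import Groth.Agent.Lib.PBasis.Eventual
import Mathlib.FieldTheory.IsAlgClosed.AlgebraicClosure
import Mathlib.RingTheory.AdjoinRoot
import Mathlib.FieldTheory.KummerPolynomial

/-!
# Regularity after height one extensions gives injectivity on differentials
-/

universe u

open IsLocalRing EGA41
open scoped TensorProduct

namespace Groth.Agent.Lib.SymGr.GeomRegular

/-- A new square-zero parameter needs one more generator. -/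
theorem step_contradiction {R S : Type u} [CommRing R] [IsLocalRing R] [IsNoetherianRing R] [CommRing S]
    [IsLocalRing S] [IsNoetherianRing S] (ψ : R →+* S) [IsLocalHom ψ] {d : ℕ}
    (hd : (maximalIdeal R).spanFinrank = d) (hS : (maximalIdeal S).spanFinrank ≤ d)
    [Module (R ⧸ maximalIdeal R ^ 2) (ResidueField R)]
    [Module (R ⧸ maximalIdeal R ^ 2)ᵐᵒᵖ (ResidueField R)]
    [IsCentralScalar (R ⧸ maximalIdeal R ^ 2) (ResidueField R)]
    (hres : ∀ (r : R) (q : ResidueField R),
      Ideal.Quotient.mk (maximalIdeal R ^ 2) r • q = residue R r * q)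
    (π : S →+* TrivSqZeroExt (R ⧸ maximalIdeal R ^ 2) (ResidueField R))
    (hψ : ∀ r, π (ψ r) = TrivSqZeroExt.inl (Ideal.Quotient.mk _ r))
    (U : S) (hU : U ∈ maximalIdeal S) (hπU : π U = TrivSqZeroExt.inr 1)
    (hfst : ∀ z ∈ maximalIdeal S, ∃ w ∈ maximalIdeal R, (π z).fst = Ideal.Quotient.mk _ w) :
    False := by
  classical
  obtain ⟨s, hscard, hs⟩ := Submodule.FG.exists_span_finset_card_eq_spanFinrank
    (IsNoetherian.noetherian (maximalIdeal S))
  let y : Fin d → S := fun l => if h : (l : ℕ) < s.card then s.equivFin.symm ⟨l, h⟩ else 0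
  have hym : ∀ l, y l ∈ maximalIdeal S := fun l => by
    simp only [y]
    split_ifs
    · rw [← hs]
      exact Submodule.subset_span (Subtype.prop _)
    · exact Submodule.zero_mem _
  have hgen : maximalIdeal S ≤ Ideal.span (Set.range y) := by
    rw [← hs, Submodule.span_le]
    intro z hz
    have hlt : ((s.equivFin ⟨z, hz⟩ : Fin s.card) : ℕ) < d :=
      lt_of_lt_of_le (s.equivFin ⟨z, hz⟩).2 (hscard.le.trans hS)
    refine Ideal.subset_span ⟨⟨_, hlt⟩, ?_⟩
    simp only [y, dif_pos (s.equivFin ⟨z, hz⟩).2, Fin.eta, Equiv.symm_apply_apply]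
  choose w hw hwe using fun l => hfst (y l) (hym l)
  have hexp : ∀ z ∈ maximalIdeal S, ∃ c : Fin d → R,
      (π z).fst = Ideal.Quotient.mk _ (∑ l, c l * w l) ∧
      ∀ t : ResidueField R, (π z).snd = t → ((∀ l, c l ∈ maximalIdeal R) → t = 0) := by
    intro z hz
    obtain ⟨e, he⟩ := (Submodule.mem_span_range_iff_exists_fun S).1 (hgen hz)
    choose c hc using fun l => Ideal.Quotient.mk_surjective (π (e l)).fst
    refine ⟨c, ?_, fun t ht hcm => ?_⟩
    · rw [← he, map_sum, TrivSqZeroExt.fst_sum, map_sum]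
      refine Finset.sum_congr rfl fun l _ => ?_
      rw [smul_eq_mul, map_mul, TrivSqZeroExt.fst_mul, ← hc, hwe, map_mul]
    · rw [← ht, ← he, map_sum, TrivSqZeroExt.snd_sum]
      refine Finset.sum_eq_zero fun l _ => ?_
      rw [smul_eq_mul, map_mul, TrivSqZeroExt.snd_mul, op_smul_eq_smul, hwe, ← hc, hres, hres,
        (residue_eq_zero_iff _).2 (hw l), (residue_eq_zero_iff _).2 (hcm l), zero_mul, zero_mul,
        add_zero]
  have hgenR : maximalIdeal R ≤ Ideal.span (Set.range w) ⊔ maximalIdeal R ^ 2 := by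
    intro r hr
    obtain ⟨c, hc, -⟩ := hexp (ψ r) (map_nonunit ψ r hr)
    rw [hψ, TrivSqZeroExt.fst_inl, Ideal.Quotient.eq] at hc
    have h1 : ∑ l, c l * w l ∈ Ideal.span (Set.range w) :=
      Submodule.sum_mem _ fun l _ => Ideal.mul_mem_left _ _ (Ideal.subset_span ⟨l, rfl⟩)
    have := add_mem (Ideal.mem_sup_right hc : _ ∈ Ideal.span (Set.range w) ⊔ maximalIdeal R ^ 2)
      (Ideal.mem_sup_left h1)
    rwa [sub_add_cancel] at this
  obtain ⟨c, hc, hc'⟩ := hexp U hU
  rw [hπU, TrivSqZeroExt.fst_inr, eq_comm, Ideal.Quotient.eq_zero_iff_mem] at hc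
  exact one_ne_zero (hc' 1 (by rw [hπU, TrivSqZeroExt.snd_inr])
    fun l => LocalStep.coeff_mem_maximalIdeal hd w hw hgenR c hc l)

variable {k A : Type u} [Field k] [CommRing A] [IsLocalRing A] [IsNoetherianRing A] [Algebra k A]
  (p : ℕ) [Fact p.Prime] [CharP k p]

omit [IsLocalRing A] [IsNoetherianRing A] in
theorem exists_root_of_mem_pPower {K : Type u} [Field K] [Algebra k K] [CharP K p] {y : K}
    (hy : y ∈ pPowerSubalgebra p (⊥ : Subfield k) K) : ∃ z : K, z ^ p = y := by
  haveI : ExpChar K p := ExpChar.prime Fact.out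
  suffices y ∈ (frobenius K p).fieldRange by
    obtain ⟨z, hz⟩ := this
    exact ⟨z, hz⟩
  induction hy using Algebra.adjoin_induction with
  | mem z hz => obtain ⟨w, rfl⟩ := hz; exact ⟨w, rfl⟩
  | algebraMap r =>
    have hr : (r : k) ∈ (frobenius K p).fieldRange.comap (algebraMap k K) :=
      (bot_le : (⊥ : Subfield k) ≤ _) r.2
    rwa [IsScalarTower.algebraMap_apply (⊥ : Subfield k) k K]
  | add a b _ _ ha hb => exact add_mem ha hb
  | mul a b _ _ ha hb => exact mul_mem ha hb

omit [IsNoetherianRing A] in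
theorem D_ne_zero (F : Set k) (a : k) (ha : a ∉ PBasis.Field.FF p (⊥ : Subfield k) F)
    (E : Type u) [Field E] [Algebra k E]
    (hE : ∀ z : E, ∃ c ∈ PBasis.Field.FF p (⊥ : Subfield k) F, algebraMap k E c = z ^ p)
    [Module.Finite k E] (hreg : IsRegularRing (E ⊗[k] A))
    (hreg' : ∀ (E' : Type u) [Field E'] [Algebra k E'], Module.Finite k E' →
      (∀ x : E', x ^ p ∈ (algebraMap k E').range) → IsRegularRing (E' ⊗[k] A))
    [IsLocalRing (E ⊗[k] A)] :
    (1 : ResidueField (E ⊗[k] A)) ⊗ₜ[E ⊗[k] A] KaehlerDifferential.D (⊥ : Subfield k) (E ⊗[k] A)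
        ((1 : E) ⊗ₜ[k] algebraMap k A a) ≠ 0 := by
  classical
  intro h0
  obtain ⟨R, hR⟩ : ∃ R, R = E ⊗[k] A := ⟨_, rfl⟩
  clear hR R
  let R := E ⊗[k] A
  haveI : IsRegularLocalRing R := IsRegularLocalRing.of_isRegularRing_of_isLocalRing R
  have hEp : ∀ z : E, z ^ p ∈ (algebraMap k E).range := fun z =>
    let ⟨c, _, hc⟩ := hE z; ⟨c, hc⟩
  haveI : CharP E p := charP_of_injective_algebraMap (algebraMap k E).injective p
  let K' := ResidueField R
  haveI : CharP R p := charP_of_injective_ringHom (f := algebraMap k R) (RingHom.injective _) p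
  haveI : CharP K' p := charP_of_injective_ringHom (f := algebraMap k K') (RingHom.injective _) p
  haveI : CharP (R ⧸ maximalIdeal R) p := ‹CharP K' p›
  set a' : R := (1 : E) ⊗ₜ[k] algebraMap k A a with ha'
  -- the residue class is a power
  have hDres : KaehlerDifferential.D (⊥ : Subfield k) K' (residue R a') = 0 := by
    have h1 := congr_arg (KaehlerDifferential.mapBaseChange (⊥ : Subfield k) R K') h0
    rwa [map_zero, KaehlerDifferential.mapBaseChange_tmul, one_smul, KaehlerDifferential.map_D]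
      at h1
  obtain ⟨γ, hγ⟩ := exists_root_of_mem_pPower (k := k) p
    (PBasis.Eventual.mem_pPowerSubalgebra_of_D_eq_zero (p := p) hDres)
  obtain ⟨g, rfl⟩ := IsLocalRing.residue_surjective γ
  have hu : a' - g ^ p ∈ maximalIdeal R := by
    rw [← residue_eq_zero_iff, map_sub, map_pow, hγ, sub_self]
  -- the difference lies in the square
  letI : Field (R ⧸ maximalIdeal R) := Ideal.Quotient.field _
  haveI : Algebra.FormallySmooth (⊥ : Subfield k) (R ⧸ maximalIdeal R) :=
    OverField.formallySmooth_bot _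
  obtain ⟨δ, hδ⟩ := Main.exists_derivation (A := (⊥ : Subfield k)) (J := maximalIdeal R)
  have hu2 : a' - g ^ p ∈ maximalIdeal R ^ 2 := by
    refine (Ideal.toCotangent_eq_zero _ ⟨_, hu⟩).1 ?_
    rw [← hδ]
    have h1 : δ.liftKaehlerDifferential.liftBaseChange (R ⧸ maximalIdeal R)
        ((1 : R ⧸ maximalIdeal R) ⊗ₜ[R] KaehlerDifferential.D (⊥ : Subfield k) R a') = 0 :=
      (congr_arg _ h0).trans (map_zero _)
    rw [LinearMap.liftBaseChange_tmul, one_smul, Derivation.liftKaehlerDifferential_comp_D] at h1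
    change δ (a' - g ^ p) = 0
    rw [map_sub, h1, PBasis.Deriv.derivation_pow_eq_zero (p := p), sub_zero]
  -- adjoin a root
  have hnot : ∀ b : E, b ^ p ≠ algebraMap k E a := fun b hb => by
    obtain ⟨c, hc, hcb⟩ := hE b
    rw [hb] at hcb
    exact ha ((algebraMap k E).injective hcb ▸ hc)
  let f : Polynomial E := Polynomial.X ^ p - Polynomial.C (algebraMap k E a)
  haveI : Fact (Irreducible f) := ⟨X_pow_sub_C_irreducible_of_prime (Fact.out : p.Prime) hnot⟩
  have hmonic : f.Monic := Polynomial.monic_X_pow_sub_C _ (Fact.out : p.Prime).ne_zero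
  let E' := AdjoinRoot f
  haveI : Module.Finite E E' := hmonic.finite_adjoinRoot
  haveI : Module.Finite k E' := Module.Finite.trans E E'
  haveI : CharP E' p := charP_of_injective_algebraMap (algebraMap k E').injective p
  haveI : ExpChar E' p := ExpChar.prime Fact.out
  have hroot : (AdjoinRoot.root f) ^ p = algebraMap k E' a := by
    have h := AdjoinRoot.eval₂_root f
    rw [Polynomial.eval₂_sub, Polynomial.eval₂_X_pow, Polynomial.eval₂_C, sub_eq_zero] at h
    rw [h, IsScalarTower.algebraMap_apply k E E']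
    rfl
  have hE' : ∀ z : E', z ^ p ∈ (algebraMap k E').range := by
    intro z
    induction z using AdjoinRoot.induction_on with
    | ih q =>
      induction q using Polynomial.induction_on' with
      | add q₁ q₂ h₁ h₂ => rw [map_add, add_pow_expChar]; exact add_mem h₁ h₂
      | monomial m e =>
        rw [← Polynomial.C_mul_X_pow_eq_monomial, map_mul, map_pow, AdjoinRoot.mk_X, mul_pow,
          ← pow_mul, mul_comm m p, pow_mul, hroot, AdjoinRoot.mk_C, ← map_pow]
        obtain ⟨c, hc⟩ := hEp e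
        refine ⟨c * a ^ m, ?_⟩
        rw [map_mul, map_pow, ← hc, IsScalarTower.algebraMap_apply k E E' c]
        rfl
  let S := E' ⊗[k] A
  haveI : IsRegularRing S := hreg' E' inferInstance hE'
  haveI : IsLocalRing S := LocalStep.isLocalRing p hE'
  haveI : IsRegularLocalRing S := IsRegularLocalRing.of_isRegularRing_of_isLocalRing S
  let ψ : R →ₐ[k] S :=
    Algebra.TensorProduct.map (IsScalarTower.toAlgHom k E E') (AlgHom.id k A)
  have hψr : ∀ c : A, ψ (Algebra.TensorProduct.includeRight c) =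
      Algebra.TensorProduct.includeRight c := fun c => by
    rw [Algebra.TensorProduct.includeRight_apply, Algebra.TensorProduct.includeRight_apply]
    refine (Algebra.TensorProduct.map_tmul _ _ _ _).trans ?_
    rw [map_one]
    rfl
  haveI : IsLocalHom ψ.toRingHom := ⟨fun r hr => by
    obtain ⟨c, hc⟩ := LocalStep.pow_mem_range p hEp r
    have hc' : (Algebra.TensorProduct.includeRight : A →ₐ[k] S) c = ψ r ^ p := by
      rw [← map_pow, ← hψr]
      exact congr_arg ψ hc
    exact (LocalStep.isUnit_iff p hEp r c hc).2 ((LocalStep.isUnit_iff p hE' (ψ r) c hc').1 hr)⟩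
  have hdim : (maximalIdeal S).spanFinrank = (maximalIdeal R).spanFinrank := by
    have h1 := IsRegularLocalRing.spanFinrank_maximalIdeal (R := R)
    have h2 := IsRegularLocalRing.spanFinrank_maximalIdeal (R := S)
    rw [LocalStep.ringKrullDim_tensor, ← LocalStep.ringKrullDim_tensor (k := k) (E := E), ← h1]
      at h2
    exact_mod_cast h2
  -- the square-zero target
  let Q := R ⧸ maximalIdeal R ^ 2
  let toK : Q →+* K' :=
    Ideal.Quotient.factor (Ideal.pow_le_self two_ne_zero : maximalIdeal R ^ 2 ≤ maximalIdeal R)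
  letI : Module Q K' := Module.compHom K' toK
  letI : Module Qᵐᵒᵖ K' := Module.compHom K' (RingEquiv.toOpposite Q).symm.toRingHom
  haveI : IsCentralScalar Q K' := ⟨fun _ _ => rfl⟩
  have hres : ∀ (r : R) (q : K'), Ideal.Quotient.mk (maximalIdeal R ^ 2) r • q = residue R r * q :=
    fun _ _ => rfl
  haveI : IsScalarTower k Q K' := IsScalarTower.of_algebraMap_smul fun c q =>
    show residue R (algebraMap k R c) * q = c • q by rw [Algebra.smul_def]; rfl
  haveI : IsScalarTower k Qᵐᵒᵖ K' := IsScalarTower.of_algebraMap_smul fun c q =>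
    show residue R (algebraMap k R c) * q = c • q by rw [Algebra.smul_def]; rfl
  let iR : R →ₐ[k] TrivSqZeroExt Q K' :=
    { (TrivSqZeroExt.inlHom Q K').comp (Ideal.Quotient.mk (maximalIdeal R ^ 2)) with
      commutes' := fun _ => rfl }
  let iE : E →+* TrivSqZeroExt Q K' :=
    (iR.comp Algebra.TensorProduct.includeLeft).toRingHom
  let t : TrivSqZeroExt Q K' :=
    TrivSqZeroExt.inl (Ideal.Quotient.mk _ g) + TrivSqZeroExt.inr 1
  have ht : t ^ p = TrivSqZeroExt.inl (Ideal.Quotient.mk _ a') := by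
    refine TrivSqZeroExt.ext ?_ ?_
    · rw [TrivSqZeroExt.fst_pow, TrivSqZeroExt.fst_inl, TrivSqZeroExt.fst_add,
        TrivSqZeroExt.fst_inl, TrivSqZeroExt.fst_inr, add_zero, ← map_pow, eq_comm, Ideal.Quotient.eq]
      exact hu2
    · rw [TrivSqZeroExt.snd_pow, TrivSqZeroExt.snd_inl, nsmul_eq_mul, CharP.cast_eq_zero, zero_mul]
  have hfE : Polynomial.eval₂ iE t f = 0 := by
    rw [Polynomial.eval₂_sub, Polynomial.eval₂_X_pow, Polynomial.eval₂_C, ht, sub_eq_zero]
    change _ = TrivSqZeroExt.inl (Ideal.Quotient.mk _ (algebraMap k E a ⊗ₜ[k] (1 : A)))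
    rw [ha', Algebra.algebraMap_eq_smul_one, Algebra.algebraMap_eq_smul_one, TensorProduct.tmul_smul,
      TensorProduct.smul_tmul']
  let fE : E' →ₐ[k] TrivSqZeroExt Q K' :=
    { AdjoinRoot.lift iE t hfE with
      commutes' := fun c => by
        change AdjoinRoot.lift iE t hfE (algebraMap k E' c) = _
        rw [IsScalarTower.algebraMap_apply k E E', AdjoinRoot.algebraMap_eq, AdjoinRoot.lift_of]
        change iR (algebraMap k E c ⊗ₜ[k] (1 : A)) = _
        exact iR.commutes c }
  let π : S →ₐ[k] TrivSqZeroExt Q K' :=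
    Algebra.TensorProduct.lift fE (iR.comp Algebra.TensorProduct.includeRight) fun _ _ => Commute.all _ _
  have hπψ : ∀ r : R, π (ψ r) = iR r := by
    suffices π.comp ψ = iR from fun r => AlgHom.congr_fun this r
    refine Algebra.TensorProduct.ext ?_ ?_
    · refine AlgHom.ext fun e => ?_
      change π (algebraMap E E' e ⊗ₜ[k] (1 : A)) = iR (e ⊗ₜ[k] (1 : A))
      rw [Algebra.TensorProduct.lift_tmul, map_one, mul_one]
      change AdjoinRoot.lift iE t hfE (algebraMap E E' e) = _
      rw [AdjoinRoot.algebraMap_eq, AdjoinRoot.lift_of]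
      rfl
    · refine AlgHom.ext fun c => ?_
      change π (ψ (Algebra.TensorProduct.includeRight c)) = iR (Algebra.TensorProduct.includeRight c)
      rw [hψr, Algebra.TensorProduct.includeRight_apply]
      refine (Algebra.TensorProduct.lift_tmul _ _ _ _ _).trans ?_
      rw [map_one, one_mul]
      rfl
  let U : S := AdjoinRoot.root f ⊗ₜ[k] (1 : A) - ψ g
  have hU : U ∈ maximalIdeal S := by
    haveI : CharP S p := charP_of_injective_ringHom (f := algebraMap k S) (RingHom.injective _) p
    haveI : ExpChar S p := ExpChar.prime Fact.out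
    refine (maximalIdeal.isMaximal S).isPrime.mem_of_pow_mem p ?_
    rw [sub_pow_expChar, Algebra.TensorProduct.tmul_pow, hroot, one_pow, ← map_pow]
    have h1 : algebraMap k E' a ⊗ₜ[k] (1 : A) = ψ a' := by
      rw [show ψ a' = (Algebra.TensorProduct.includeRight : A →ₐ[k] S) (algebraMap k A a) from
        hψr (algebraMap k A a), Algebra.TensorProduct.includeRight_apply,
        Algebra.algebraMap_eq_smul_one, Algebra.algebraMap_eq_smul_one, TensorProduct.tmul_smul,
        TensorProduct.smul_tmul']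
    rw [h1, ← map_sub]
    exact map_nonunit ψ.toRingHom _ hu
  refine step_contradiction (R := R) (S := S) ψ.toRingHom rfl hdim.le hres π.toRingHom hπψ U hU ?_ ?_
  · change π (_ - _) = _
    rw [map_sub, hπψ, Algebra.TensorProduct.lift_tmul, map_one, mul_one]
    change AdjoinRoot.lift iE t hfE (AdjoinRoot.root f) - _ = _
    rw [AdjoinRoot.lift_root]
    exact add_sub_cancel_left _ _
  · intro z hz
    obtain ⟨c, hc⟩ := LocalStep.pow_mem_range p hE' z
    obtain ⟨w, hw⟩ := Ideal.Quotient.mk_surjective (π z).fst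
    refine ⟨w, ?_, hw.symm⟩
    have hcu : ¬ IsUnit c := fun hcu =>
      (mem_maximalIdeal _).1 hz ((LocalStep.isUnit_iff p hE' z c hc).2 hcu)
    have hc' : (Algebra.TensorProduct.includeRight : A →ₐ[k] R) c ∈ maximalIdeal R := by
      rw [mem_maximalIdeal, mem_nonunits_iff]
      intro hu'
      refine hcu ((isUnit_pow_iff (Fact.out : p.Prime).ne_zero).1 ?_)
      exact (LocalStep.isUnit_iff p hEp _ (c ^ p) (map_pow _ c p)).1 hu'
    refine (maximalIdeal.isMaximal R).isPrime.mem_of_pow_mem p ?_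
    have h1 : Ideal.Quotient.mk (maximalIdeal R ^ 2) (w ^ p) =
        Ideal.Quotient.mk _ ((Algebra.TensorProduct.includeRight : A →ₐ[k] R) c) := by
      rw [map_pow, hw]
      have h2 := congr_arg TrivSqZeroExt.fst (congr_arg π hc)
      change (π ((Algebra.TensorProduct.includeRight : A →ₐ[k] S) c)).fst = _ at h2
      rw [hψr c |>.symm, hπψ, map_pow, TrivSqZeroExt.fst_pow] at h2
      exact h2.symm
    have h3 := add_mem (Ideal.pow_le_self two_ne_zero (Ideal.Quotient.eq.1 h1)) hc'
    rwa [sub_add_cancel] at h3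

omit [IsNoetherianRing A] in
/-- Push a relation between differentials along a local map. -/
theorem push_relation {R : Type u} [CommRing R] [Algebra k R] [IsLocalRing R] [CharP R p]
    (inc : A →ₐ[k] R) (hinc : ∀ c, IsUnit (inc c) → IsUnit c) {ι : Type u} (s : Finset ι) (n : ι)
    (hn : n ∈ s) (v : ι → k) (r : ι → ResidueField A) (hrn : r n ≠ 0)
    (hroot : ∀ i ∈ s, i ≠ n → ∃ z : R, z ^ p = inc (algebraMap k A (v i)))
    (hrel : ∑ i ∈ s, r i • ((1 : ResidueField A) ⊗ₜ[A]
      KaehlerDifferential.D (⊥ : Subfield k) A (algebraMap k A (v i))) = 0) :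
    (1 : ResidueField R) ⊗ₜ[R] KaehlerDifferential.D (⊥ : Subfield k) R
        (inc (algebraMap k A (v n))) = 0 := by
  classical
  letI : Algebra A R := inc.toRingHom.toAlgebra
  haveI : IsScalarTower k A R := IsScalarTower.of_algebraMap_eq fun c => (inc.commutes c).symm
  haveI : IsScalarTower (⊥ : Subfield k) A R := IsScalarTower.of_algebraMap_eq fun c => by
    rw [IsScalarTower.algebraMap_apply (⊥ : Subfield k) k A,
      IsScalarTower.algebraMap_apply (⊥ : Subfield k) k R]
    exact (inc.commutes _).symm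
  haveI : IsLocalHom (algebraMap A R) := ⟨hinc⟩
  let K := ResidueField A
  let N := ResidueField R ⊗[R] Ω[R⁄(⊥ : Subfield k)]
  let L₀ : Ω[A⁄(⊥ : Subfield k)] →ₗ[A] N :=
    ((TensorProduct.mk R (ResidueField R) Ω[R⁄(⊥ : Subfield k)] 1).restrictScalars A) ∘ₗ
      (KaehlerDifferential.map (⊥ : Subfield k) (⊥ : Subfield k) A R)
  let act : K →+* ResidueField R := ResidueField.map (algebraMap A R)
  have hact : ∀ (c : A) (q : K) (m : N), act (c • q) • m = c • (act q • m) := fun c q m => by
    rw [Algebra.smul_def, map_mul, mul_smul, ← algebraMap_smul R c (act q • m),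
      ← algebraMap_smul (ResidueField R) (algebraMap A R c) (act q • m)]
    rfl
  let G : K ⊗[A] Ω[A⁄(⊥ : Subfield k)] →ₗ[A] N :=
    TensorProduct.lift (LinearMap.mk₂ A (fun q ω => act q • L₀ ω)
      (fun q q' ω => by rw [map_add, add_smul]) (fun c q ω => hact c q _)
      (fun q ω ω' => by rw [map_add, smul_add])
      (fun c q ω => by rw [map_smul, smul_comm]))
  have hG : ∀ (c : k) (q : K),
      G (q • ((1 : K) ⊗ₜ[A] KaehlerDifferential.D (⊥ : Subfield k) A (algebraMap k A c))) =
        act q • ((1 : ResidueField R) ⊗ₜ[R]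
          KaehlerDifferential.D (⊥ : Subfield k) R (inc (algebraMap k A c))) := fun c q => by
    rw [TensorProduct.smul_tmul', smul_eq_mul, mul_one]
    simp only [G, TensorProduct.lift.tmul, LinearMap.mk₂_apply, L₀, LinearMap.comp_apply,
      LinearMap.coe_restrictScalars, KaehlerDifferential.map_D, TensorProduct.mk_apply]
    rfl
  have h1 := congr_arg G hrel
  simp only [map_sum, map_zero, hG] at h1
  rw [Finset.sum_eq_single n (fun i hi hin => by
    obtain ⟨z, hz⟩ := hroot i hi hin
    rw [← hz, PBasis.Deriv.derivation_pow_eq_zero (p := p), TensorProduct.tmul_zero, smul_zero])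
    (fun h => absurd hn h)] at h1
  exact (smul_eq_zero.1 (show act (r n) • _ = (0 : N) from h1)).resolve_left
    ((map_ne_zero act).2 hrn)

omit [IsNoetherianRing A] in
/-- A kernel element gives a relation between differentials. -/
theorem relation_of_ker {B : Type u} (b : Module.Basis B k Ω[k⁄(⊥ : Subfield k)]) (v : B → k)
    (hb : ∀ i, b i = KaehlerDifferential.D (⊥ : Subfield k) k (v i))
    (z : ResidueField A ⊗[k] Ω[k⁄(⊥ : Subfield k)])
    (hz : (KaehlerDifferential.mapBaseChange (⊥ : Subfield k) k A).lTensor (ResidueField A)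
      ((TensorProduct.AlgebraTensorModule.cancelBaseChange k A A (ResidueField A) _).symm z) = 0) :
    ∑ i ∈ ((b.baseChange (ResidueField A)).repr z).support,
      (b.baseChange (ResidueField A)).repr z i • ((1 : ResidueField A) ⊗ₜ[A]
        KaehlerDifferential.D (⊥ : Subfield k) A (algebraMap k A (v i))) = 0 := by
  let K := ResidueField A
  let bK := b.baseChange K
  let e := TensorProduct.AlgebraTensorModule.cancelBaseChange k A A K (Ω[k⁄(⊥ : Subfield k)])
  let β : K ⊗[k] Ω[k⁄(⊥ : Subfield k)] →ₗ[A] K ⊗[A] Ω[A⁄(⊥ : Subfield k)] :=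
    (KaehlerDifferential.mapBaseChange (⊥ : Subfield k) k A).lTensor K ∘ₗ e.symm.toLinearMap
  have hβ : ∀ i, β (bK i) =
      (1 : K) ⊗ₜ[A] KaehlerDifferential.D (⊥ : Subfield k) A (algebraMap k A (v i)) := fun i => by
    simp only [β, bK, e, LinearMap.comp_apply, LinearEquiv.coe_coe]
    rw [Module.Basis.baseChange_apply, hb,
      TensorProduct.AlgebraTensorModule.cancelBaseChange_symm_tmul, LinearMap.lTensor_tmul,
      KaehlerDifferential.mapBaseChange_tmul, one_smul, KaehlerDifferential.map_D]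
  have h1 : β z = 0 := hz
  rw [← bK.linearCombination_repr z] at h1
  simp only [Finsupp.linearCombination_apply, Finsupp.sum, map_sum] at h1
  refine (Finset.sum_congr rfl fun i _ => ?_).trans h1
  obtain ⟨c, hc⟩ := IsLocalRing.residue_surjective (bK.repr z i)
  change bK.repr z i • _ = β (bK.repr z i • bK i)
  rw [← hc]
  refine ((algebraMap_smul K c _).trans ?_).trans (congr_arg β (algebraMap_smul K c (bK i))).symm
  rw [map_smul, hβ]

omit [IsLocalRing A] [IsNoetherianRing A] in
/-- Adjoin the roots of a finite set. -/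
theorem exists_extension (F : Set k) (hF : F.Finite) :
    ∃ (E : Type u) (_ : Field E) (_ : Algebra k E), Module.Finite k E ∧
      (∀ z : E, ∃ c ∈ PBasis.Field.FF p (⊥ : Subfield k) F, algebraMap k E c = z ^ p) ∧
      ∀ i ∈ F, ∃ z : E, z ^ p = algebraMap k E i := by
  let L := AlgebraicClosure k
  haveI : CharP L p := charP_of_injective_algebraMap (algebraMap k L).injective p
  haveI : ExpChar L p := ExpChar.prime Fact.out
  choose rt hrt using fun i : F =>
    IsAlgClosed.exists_pow_nat_eq (algebraMap k L (i : k)) (Fact.out : p.Prime).pos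
  haveI : Finite F := hF.to_subtype
  let E := IntermediateField.adjoin k (Set.range rt)
  haveI : Module.Finite k E :=
    IntermediateField.finiteDimensional_adjoin fun z _ => Algebra.IsIntegral.isIntegral z
  refine ⟨E, inferInstance, inferInstance, inferInstance, fun z => ?_, fun i hi =>
    ⟨⟨rt ⟨i, hi⟩, IntermediateField.subset_adjoin _ _ ⟨_, rfl⟩⟩, Subtype.ext (hrt ⟨i, hi⟩)⟩⟩
  have hle : E.toSubfield ≤
      (((PBasis.Field.FF p (⊥ : Subfield k) F).toSubfield.map (algebraMap k L)).comap
        (frobenius L p)) := by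
    rw [IntermediateField.adjoin_toSubfield, Subfield.closure_le]
    rintro _ (⟨c, rfl⟩ | ⟨i, rfl⟩)
    · exact ⟨c ^ p, PBasis.Field.pow_mem_FF _ c, map_pow _ _ _⟩
    · exact ⟨i, PBasis.Field.subset_FF _ i.2, (hrt i).symm⟩
  obtain ⟨c, hc, hcz⟩ := hle z.2
  exact ⟨c, hc, Subtype.ext hcz⟩

/-- Regularity after all height one extensions gives injectivity. -/
theorem injective_of_forall_regular
    (hreg : ∀ (E : Type u) [Field E] [Algebra k E], Module.Finite k E →
      (∀ x : E, x ^ p ∈ (algebraMap k E).range) → IsRegularRing (E ⊗[k] A)) :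
    Function.Injective
      ((KaehlerDifferential.mapBaseChange (⊥ : Subfield k) k A).lTensor (ResidueField A)) := by
  classical
  let Λ := (⊥ : Subfield k)
  let K := ResidueField A
  rw [injective_iff_map_eq_zero]
  intro x hx
  by_contra hx0
  let e := TensorProduct.AlgebraTensorModule.cancelBaseChange k A A K (Ω[k⁄Λ])
  obtain ⟨B, -, -, hB⟩ := PBasis.Field.exists_pBasis (p := p) (k := Λ) (K := k) Set.univ ∅
    (Set.empty_subset _) PBasis.Field.isPGenerating_univ
    ((PBasis.Field.isPIndependent_set_iff (∅ : Set k)).2 (by simp))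
  obtain ⟨b, hb⟩ := PBasis.Field.isPBasis_iff_D.1 hB
  let bK := b.baseChange K
  let r := bK.repr (e x)
  obtain ⟨n, hn⟩ : r.support.Nonempty := by
    rw [Finsupp.support_nonempty_iff]
    intro hr
    refine hx0 (e.injective (bK.repr.injective ?_))
    rw [map_zero, map_zero]
    exact hr
  let F : Set k := (Subtype.val : B → k) '' ((r.support.erase n : Finset B) : Set B)
  have ha : (n : k) ∉ PBasis.Field.FF p Λ F := by
    intro hmem
    refine (PBasis.Field.isPIndependent_set_iff B).1 hB.1 n n.2 (PBasis.Field.FF_mono ?_ hmem)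
    rintro _ ⟨i, hi, rfl⟩
    exact ⟨i.2, fun h => (Finset.mem_erase.1 hi).1 (Subtype.ext h)⟩
  obtain ⟨E, _, _, _, hE, hrt⟩ :=
    exists_extension (k := k) p F ((r.support.erase n).finite_toSet.image _)
  have hEp : ∀ z : E, z ^ p ∈ (algebraMap k E).range := fun z =>
    let ⟨c, _, hc⟩ := hE z; ⟨c, hc⟩
  haveI : IsLocalRing (E ⊗[k] A) := LocalStep.isLocalRing p hEp
  have hrel := relation_of_ker b (fun i => (i : k)) hb (e x)
    (by rw [LinearEquiv.symm_apply_apply, hx])
  refine D_ne_zero p F n ha E hE (hreg E inferInstance hEp) hreg ?_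
  haveI : CharP (E ⊗[k] A) p :=
    charP_of_injective_ringHom (f := algebraMap k (E ⊗[k] A)) (RingHom.injective _) p
  refine push_relation p (R := E ⊗[k] A) Algebra.TensorProduct.includeRight
    (fun c hc => (isUnit_pow_iff (Fact.out : p.Prime).ne_zero).1
      ((LocalStep.isUnit_iff p hEp _ (c ^ p) (map_pow _ c p)).1 hc))
    r.support n hn (fun i => (i : k)) (fun i => r i)
    (Finsupp.mem_support_iff.1 hn) (fun i hi hin => ?_) hrel
  obtain ⟨z, hz⟩ := hrt (i : k) ⟨i, Finset.mem_erase.2 ⟨hin, hi⟩, rfl⟩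
  refine ⟨z ⊗ₜ[k] (1 : A), ?_⟩
  rw [Algebra.TensorProduct.tmul_pow, one_pow, hz, AlgHom.commutes,
    Algebra.TensorProduct.algebraMap_apply]

end Groth.Agent.Lib.SymGr.GeomRegular
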