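import Groth.Agent.Lib.FSAdic.Completion
import Groth.Agent.Lib.FSAdic.PowerSeries
import Groth.Agent.Lib.Regular.Completion
import Groth.Agent.H24.PowerSeries
import Mathlib.RingTheory.Smooth.Basic

/-!
# Adically smooth local algebras with separable residue field are the regular ones
-/

universe u

open IsLocalRing Groth.Agent.Lib.FSAdic.Basic

namespace Groth.Agent.Lib.SymGr.Regular

variable {k A : Type u} [Field k] [CommRing A] [IsLocalRing A] [IsNoetherianRing A] [Algebra k A]

theorem residue_map_completion_surjective :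
    Function.Surjective ((Ideal.Quotient.mk (maximalIdeal (AdicCompletion (maximalIdeal A) A))).comp
      (algebraMap A (AdicCompletion (maximalIdeal A) A))) := fun y => by
  obtain ⟨z, hz⟩ := (AdicCompletion.residueField_map_bijective A).2 y
  obtain ⟨a, rfl⟩ := IsLocalRing.residue_surjective z
  exact ⟨a, hz⟩

/-- A coefficient field of the completion over the base field. -/
theorem exists_coeff [Algebra.FormallySmooth k (ResidueField A)] :
    ∃ σ : ResidueField A →ₐ[k] AdicCompletion (maximalIdeal A) A, ∀ a : A,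
      σ (residue A a) - algebraMap A _ a ∈ maximalIdeal (AdicCompletion (maximalIdeal A) A) := by
  let S := AdicCompletion (maximalIdeal A) A
  let mS := maximalIdeal S
  have hm : (maximalIdeal A).map (algebraMap A S) = mS := (AdicCompletion.maximalIdeal_eq_map).symm
  let q : A →ₐ[k] S ⧸ mS := (Ideal.Quotient.mkₐ k mS).comp (IsScalarTower.toAlgHom k A S)
  let u : ResidueField A →ₐ[k] S ⧸ mS := Ideal.Quotient.liftₐ (maximalIdeal A) q fun a ha =>
    Ideal.Quotient.eq_zero_iff_mem.2 (hm ▸ Ideal.mem_map_of_mem _ ha)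
  haveI : IsHausdorff (mS.map (Ideal.Quotient.mk mS)) (S ⧸ mS) := by
    rw [Ideal.map_quotient_self]
    infer_instance
  obtain ⟨σ, -, hσ⟩ := exists_lift_complete (A := k) (𝔞 := ⊥) (𝔟 := (⊥ : Ideal (ResidueField A)))
    of_formallySmooth mS ⟨1, by simp⟩ mS ⟨1, (pow_one mS).le⟩ u ⟨1, by simp⟩
  refine ⟨σ, fun a => ?_⟩
  rw [← Ideal.Quotient.eq]
  exact AlgHom.congr_fun hσ (residue A a)

/-- A coefficient field gives a presentation by power series with as many variables as generators. -/
theorem exists_presentation (σ : ResidueField A →ₐ[k] AdicCompletion (maximalIdeal A) A)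
    (hσ : ∀ a : A,
      σ (residue A a) - algebraMap A _ a ∈ maximalIdeal (AdicCompletion (maximalIdeal A) A)) :
    ∃ Φ : MvPowerSeries (Fin (maximalIdeal A).spanFinrank) (ResidueField A) →ₐ[k]
        AdicCompletion (maximalIdeal A) A,
      (∀ c, Φ (algebraMap _ _ c) = σ c) ∧ Function.Surjective Φ ∧
        ∀ f, Φ f ∈ maximalIdeal (AdicCompletion (maximalIdeal A) A) ^ 2 →
          f ∈ maximalIdeal (MvPowerSeries (Fin (maximalIdeal A).spanFinrank) (ResidueField A)) ^ 2 := by
  classical
  obtain ⟨d, hd⟩ : ∃ d, d = (maximalIdeal A).spanFinrank := ⟨_, rfl⟩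
  rw [← hd]
  let S := AdicCompletion (maximalIdeal A) A
  let K := ResidueField A
  let P := MvPowerSeries (Fin d) K
  haveI : IsNoetherianRing S := Lib.Excellent.CompletionNoetherian.isNoetherianRing_adicCompletion _
  have hdS : (maximalIdeal S).spanFinrank = d :=
    AdicCompletion.spanFinrank_maximalIdeal_eq.trans hd.symm
  obtain ⟨x, hx⟩ : ∃ x : Fin d → S, Ideal.span (Set.range x) = maximalIdeal S := by
    have hfg : (maximalIdeal S).FG := IsNoetherian.noetherian _
    obtain ⟨s, hscard, hs⟩ := Submodule.FG.exists_span_finset_card_eq_spanFinrank hfg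
    rw [hdS] at hscard
    refine ⟨fun i => (s.equivFinOfCardEq hscard).symm i, ?_⟩
    rw [show (Set.range fun i => ((s.equivFinOfCardEq hscard).symm i : S)) = (s : Set S) by
      ext y; exact ⟨fun ⟨i, hi⟩ => hi ▸ ((s.equivFinOfCardEq hscard).symm i).2,
        fun hy => ⟨s.equivFinOfCardEq hscard ⟨y, hy⟩, by simp⟩⟩]
    exact hs
  have hxm : ∀ i, x i ∈ maximalIdeal S := fun i => hx ▸ Ideal.subset_span ⟨i, rfl⟩
  letI : Algebra K S := σ.toRingHom.toAlgebra
  obtain ⟨Φ, hΦX⟩ := Groth.Agent.H24.PowerSeries.exists_hom (A := K) (maximalIdeal S) x hxm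
  have hPm := Groth.Agent.H24.PowerSeries.maximalIdeal_eq K (Fin d)
  haveI := Groth.Agent.H24.PowerSeries.isAdicComplete K (Fin d)
  have hΦm : (maximalIdeal P).map Φ.toRingHom = maximalIdeal S := by
    rw [hPm, Ideal.map_span, ← Set.range_comp, ← hx]
    congr 2
    exact funext hΦX
  let Φk : P →ₐ[k] S :=
    { Φ.toRingHom with
      commutes' := fun c => by
        change Φ (algebraMap k P c) = _
        rw [IsScalarTower.algebraMap_apply k K P, AlgHom.commutes]
        exact σ.commutes c }
  refine ⟨Φk, fun c => Φ.commutes c, ?_, fun f hf => ?_⟩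
  · refine Groth.Agent.H24.PowerSeries.surjective_of_cotangent Φ.toRingHom (fun y => ?_) hΦm.le
      (le_sup_of_le_left hΦm.ge)
    obtain ⟨y, rfl⟩ := IsLocalRing.residue_surjective y
    obtain ⟨a, ha⟩ := residue_map_completion_surjective (A := A) (Ideal.Quotient.mk _ y)
    refine ⟨algebraMap K P (residue A a), ?_⟩
    change residue S (Φ (algebraMap K P (residue A a))) = residue S y
    rw [AlgHom.commutes]
    exact (Ideal.Quotient.eq.2 (hσ a)).trans ha
  · have hfm : f ∈ maximalIdeal P := by
      rw [mem_maximalIdeal, mem_nonunits_iff]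
      intro hu
      exact (mem_maximalIdeal _).1 (Ideal.pow_le_self two_ne_zero hf) (hu.map Φ)
    rw [hPm] at hfm
    obtain ⟨g, rfl⟩ := (Submodule.mem_span_range_iff_exists_fun P).1 hfm
    let c : Fin d → K := fun i => MvPowerSeries.constantCoeff (g i)
    have hgc : ∀ i, g i - algebraMap K P (c i) ∈ maximalIdeal P := fun i => by
      rw [mem_maximalIdeal, mem_nonunits_iff, MvPowerSeries.isUnit_iff_constantCoeff]
      rw [map_sub, show algebraMap K P (c i) = MvPowerSeries.C (c i) from rfl,
        MvPowerSeries.constantCoeff_C, sub_self]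
      exact not_isUnit_zero
    have hsum : ∑ i, g i • MvPowerSeries.X i - ∑ i, algebraMap K P (c i) * MvPowerSeries.X i ∈
        maximalIdeal P ^ 2 := by
      rw [← Finset.sum_sub_distrib]
      refine Submodule.sum_mem _ fun i _ => ?_
      rw [smul_eq_mul, ← sub_mul, pow_two]
      exact Ideal.mul_mem_mul (hgc i) (Groth.Agent.H24.PowerSeries.X_mem K i)
    suffices ∀ i, c i = 0 by simpa [this] using hsum
    intro j
    by_contra hj
    have h2 : ∑ i, σ (c i) * x i ∈ maximalIdeal S ^ 2 := by
      have h3 := Ideal.mem_map_of_mem Φ.toRingHom hsum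
      rw [Ideal.map_pow, hΦm] at h3
      change Φ (_ - _) ∈ _ at h3
      rw [map_sub] at h3
      have h4 := sub_mem hf h3
      change Φ _ - _ ∈ _ at h4
      rw [sub_sub_cancel, map_sum] at h4
      simp only [map_mul] at h4
      convert h4 using 1
      exact Finset.sum_congr rfl fun l _ => by rw [hΦX, AlgHom.commutes]; rfl
    let N : Ideal S := Ideal.span (x '' ((Finset.univ.erase j : Finset (Fin d)) : Set (Fin d)))
    have hle : maximalIdeal S ≤ N := by
      refine Submodule.le_of_le_smul_of_le_jacobson_bot (IsNoetherian.noetherian _)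
        (jacobson_eq_maximalIdeal ⊥ bot_ne_top).ge ?_
      rw [smul_eq_mul, ← pow_two]
      conv_lhs => rw [← hx]
      rw [Ideal.span_le]
      rintro _ ⟨i, rfl⟩
      by_cases hij : i = j
      · subst hij
        have hu : IsUnit (σ (c i)) := (isUnit_iff_ne_zero.2 hj).map σ
        refine (Ideal.unit_mul_mem_iff_mem _ hu).1 ?_
        rw [← Finset.add_sum_erase _ _ (Finset.mem_univ i)] at h2
        have h5 : ∑ l ∈ Finset.univ.erase i, σ (c l) * x l ∈ N := Submodule.sum_mem _ fun l hl =>
          Ideal.mul_mem_left _ _ (Ideal.subset_span ⟨l, hl, rfl⟩)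
        have h6 := sub_mem (Ideal.mem_sup_right h2 : _ ∈ N ⊔ maximalIdeal S ^ 2)
          (Ideal.mem_sup_left h5)
        rwa [add_sub_cancel_right] at h6
      · exact Ideal.mem_sup_left (Ideal.subset_span ⟨i, by simp [hij], rfl⟩)
    have heq : maximalIdeal S = N := le_antisymm hle (Ideal.span_le.2 (by
      rintro _ ⟨i, -, rfl⟩
      exact hxm i))
    have h7 : (maximalIdeal S).spanFinrank ≤ d - 1 := by
      rw [heq]
      refine (Submodule.spanFinrank_span_le_ncard_of_finite ((Finset.finite_toSet _).image x)).trans ?_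
      refine (Set.ncard_image_le (Finset.finite_toSet _)).trans ?_
      rw [Set.ncard_coe_finset, Finset.card_erase_of_mem (Finset.mem_univ j), Finset.card_univ,
        Fintype.card_fin]
    have := j.pos
    omega

theorem isRegularLocalRing_of_adic [Algebra.FormallySmooth k (ResidueField A)]
    (h : CAlgX.IsAdicFormallySmooth k A (maximalIdeal A)) : IsRegularLocalRing A := by
  obtain ⟨σ, hσ⟩ := exists_coeff (k := k) (A := A)
  obtain ⟨Φ, -, hsurj, hΦ2⟩ := exists_presentation σ hσ
  generalize hd : (maximalIdeal A).spanFinrank = d at Φ hsurj hΦ2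
  let S := AdicCompletion (maximalIdeal A) A
  let P := MvPowerSeries (Fin d) (ResidueField A)
  haveI := Groth.Agent.H24.PowerSeries.isRegularLocalRing_fin (ResidueField A) d
  haveI := Groth.Agent.H24.PowerSeries.isAdicComplete (ResidueField A) (Fin d)
  haveI : IsNoetherianRing S := Lib.Excellent.CompletionNoetherian.isNoetherianRing_adicCompletion _
  have hfg : (maximalIdeal A).FG := IsNoetherian.noetherian _
  have hFS : EGA41.IsFormallySmoothAdic k ⊥ S (maximalIdeal S) := by
    have h1 := (FSAdic.Completion.iff_adicCompletion (A := k) ⊥ hfg).1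
      (isFormallySmoothAdic_bot_iff.1 h)
    rwa [← AdicCompletion.maximalIdeal_eq_map] at h1
  -- invert the presentation modulo squares
  have hΦm : (maximalIdeal P).map Φ.toRingHom = maximalIdeal S :=
    IsLocalRing.map_maximalIdeal_of_surjective Φ.toRingHom hsurj
  let Φ₂ : (P ⧸ maximalIdeal P ^ 2) →ₐ[k] S ⧸ maximalIdeal S ^ 2 :=
    Ideal.Quotient.liftₐ _ ((Ideal.Quotient.mkₐ k _).comp Φ) fun f hf =>
      Ideal.Quotient.eq_zero_iff_mem.2 (by
        have := Ideal.mem_map_of_mem Φ.toRingHom hf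
        rwa [Ideal.map_pow, hΦm] at this)
  have hΦ₂ : Function.Bijective Φ₂ := by
    refine ⟨(injective_iff_map_eq_zero _).2 fun y hy => ?_, fun y => ?_⟩
    · obtain ⟨f, rfl⟩ := Ideal.Quotient.mk_surjective y
      exact Ideal.Quotient.eq_zero_iff_mem.2 (hΦ2 f (Ideal.Quotient.eq_zero_iff_mem.1 hy))
    · obtain ⟨s, rfl⟩ := Ideal.Quotient.mk_surjective y
      obtain ⟨f, rfl⟩ := hsurj s
      exact ⟨Ideal.Quotient.mk _ f, rfl⟩
  let e := AlgEquiv.ofBijective Φ₂ hΦ₂
  let u : S →ₐ[k] P ⧸ maximalIdeal P ^ 2 := e.symm.toAlgHom.comp (Ideal.Quotient.mkₐ k _)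
  have hu : ∀ f, u (Φ f) = Ideal.Quotient.mk _ f := fun f => e.symm_apply_apply (Ideal.Quotient.mk _ f)
  have hum : (maximalIdeal S).map u.toRingHom ≤
      (maximalIdeal P).map (Ideal.Quotient.mk (maximalIdeal P ^ 2)) := by
    rw [Ideal.map_le_iff_le_comap]
    intro s hs
    obtain ⟨f, rfl⟩ := hsurj s
    rw [Ideal.mem_comap]
    change u (Φ f) ∈ _
    rw [hu]
    refine Ideal.mem_map_of_mem _ ?_
    rw [mem_maximalIdeal, mem_nonunits_iff]
    exact fun hf => (mem_maximalIdeal _).1 hs (hf.map Φ)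
  haveI : IsHausdorff ((maximalIdeal P).map (Ideal.Quotient.mk (maximalIdeal P ^ 2)))
      (P ⧸ maximalIdeal P ^ 2) :=
    (Groth.Agent.H24.PowerSeries.isAdicComplete_of_pow_eq_bot _ 2
      (by rw [← Ideal.map_pow, Ideal.map_quotient_self])).toIsHausdorff
  obtain ⟨v, -, hv⟩ := exists_lift_complete hFS (maximalIdeal P) ⟨1, by simp⟩
    (maximalIdeal P ^ 2) ⟨1, by rw [pow_one]; exact Ideal.pow_le_self two_ne_zero⟩ u
    ⟨1, by rw [pow_one]; exact hum⟩
  have hvΦ : ∀ f, v (Φ f) - f ∈ maximalIdeal P ^ 2 := fun f => by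
    rw [← Ideal.Quotient.eq]
    exact (AlgHom.congr_fun hv (Φ f)).trans (hu f)
  have hvm : (maximalIdeal S).map v.toRingHom ≤ maximalIdeal P := by
    rw [Ideal.map_le_iff_le_comap]
    intro s hs
    obtain ⟨f, rfl⟩ := hsurj s
    rw [Ideal.mem_comap]
    change v (Φ f) ∈ _
    have hf : f ∈ maximalIdeal P := by
      rw [mem_maximalIdeal, mem_nonunits_iff]
      exact fun hf => (mem_maximalIdeal _).1 hs (hf.map Φ)
    have := add_mem (Ideal.pow_le_self two_ne_zero (hvΦ f)) hf
    rwa [sub_add_cancel] at this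
  have hvsurj : Function.Surjective v := by
    refine Groth.Agent.H24.PowerSeries.surjective_of_cotangent v.toRingHom (fun y => ?_) hvm ?_
    · obtain ⟨f, rfl⟩ := IsLocalRing.residue_surjective y
      refine ⟨Φ f, Ideal.Quotient.eq.2 (Ideal.pow_le_self two_ne_zero (hvΦ f))⟩
    · intro f hf
      have hfS : Φ f ∈ maximalIdeal S := hΦm ▸ Ideal.mem_map_of_mem Φ.toRingHom hf
      have h1 : v (Φ f) ∈ (maximalIdeal S).map v.toRingHom := Ideal.mem_map_of_mem _ hfS
      have h2 := sub_mem (Ideal.mem_sup_left h1 :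
        _ ∈ (maximalIdeal S).map v.toRingHom ⊔ maximalIdeal P ^ 2) (Ideal.mem_sup_right (hvΦ f))
      rwa [sub_sub_cancel] at h2
  refine IsRegularLocalRing.of_spanFinrank_maximalIdeal_le A ?_
  rw [hd, ← Groth.Agent.H24.PowerSeries.ringKrullDim_eq (ResidueField A) d,
    ← Regular.Completion.ringKrullDim_eq (maximalIdeal A) (maximalIdeal.isMaximal A).ne_top]
  exact ringKrullDim_le_of_surjective v.toRingHom hvsurj

theorem adic_of_isRegularLocalRing [Algebra.FormallySmooth k (ResidueField A)]
    [IsRegularLocalRing A] : CAlgX.IsAdicFormallySmooth k A (maximalIdeal A) := by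
  obtain ⟨σ, hσ⟩ := exists_coeff (k := k) (A := A)
  obtain ⟨Φ, -, hsurj, -⟩ := exists_presentation σ hσ
  generalize hd : (maximalIdeal A).spanFinrank = d at Φ hsurj
  let S := AdicCompletion (maximalIdeal A) A
  let K := ResidueField A
  let P := MvPowerSeries (Fin d) K
  haveI : IsRegularLocalRing S :=
    (Regular.Completion.isRegularLocalRing_iff _ (maximalIdeal.isMaximal A).ne_top).1 inferInstance
  haveI := Groth.Agent.H24.PowerSeries.isRegularLocalRing_fin K d
  have hinj : Function.Injective Φ :=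
    Groth.Agent.H24.PowerSeries.injective_of_spanFinrank Φ.toRingHom hsurj (by
      rw [Groth.Agent.H24.PowerSeries.spanFinrank_maximalIdeal]
      exact hd.symm.trans AdicCompletion.spanFinrank_maximalIdeal_eq.symm)
  let e := AlgEquiv.ofBijective Φ ⟨hinj, hsurj⟩
  rw [isFormallySmoothAdic_bot_iff,
    FSAdic.Completion.iff_adicCompletion (A := k) ⊥ (IsNoetherian.noetherian _),
    ← AdicCompletion.maximalIdeal_eq_map]
  intro C _ _ J hJ _ u ⟨t, ht⟩
  obtain ⟨χ, hχ⟩ := Algebra.FormallySmooth.exists_lift (R := k) J hJ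
    ((u.comp e.toAlgHom).comp (IsScalarTower.toAlgHom k K P))
  letI : Algebra K C := χ.toRingHom.toAlgebra
  let u' : P →ₐ[K] C ⧸ J :=
    { (u.comp e.toAlgHom).toRingHom with commutes' := fun c => (AlgHom.congr_fun hχ c).symm }
  obtain ⟨w, hw⟩ := FSAdic.PowerSeries.isFormallySmoothAdic (A := K) ⊥ (maximalIdeal P)
    (fun i => Groth.Agent.H24.PowerSeries.X_mem K i) C J hJ ⟨1, by simp⟩ u' ⟨t, fun f hf => ht _ (by
      have h1 := Ideal.mem_map_of_mem Φ.toRingHom hf
      rwa [Ideal.map_pow, IsLocalRing.map_maximalIdeal_of_surjective Φ.toRingHom hsurj] at h1)⟩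
  let wk : P →ₐ[k] C :=
    { w.toRingHom with
      commutes' := fun c => by
        change w (algebraMap k P c) = _
        rw [IsScalarTower.algebraMap_apply k K P, AlgHom.commutes]
        exact χ.commutes c }
  refine ⟨wk.comp e.symm.toAlgHom, AlgHom.ext fun s => ?_⟩
  change Ideal.Quotient.mk J (w (e.symm s)) = u s
  refine (AlgHom.congr_fun hw (e.symm s)).trans ?_
  change u (e (e.symm s)) = u s
  rw [AlgEquiv.apply_symm_apply]

theorem iff_isRegularLocalRing [Algebra.FormallySmooth k (ResidueField A)] :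
    CAlgX.IsAdicFormallySmooth k A (maximalIdeal A) ↔ IsRegularLocalRing A :=
  ⟨isRegularLocalRing_of_adic, fun h => adic_of_isRegularLocalRing⟩

end Groth.Agent.Lib.SymGr.Regular
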